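import Groth.Agent.PCompactLib.Sum
import Groth.Agent.ModTensor.Sheaf
import Groth.Agent.SiteBase.FreeOn
import Groth.Agent.SiteBase.FreeMod
import Groth.Agent.CohSiteLib2.WC
import Groth.Agent.FPLocal.Coprod
import Groth.Agent.ToposFinLib.QC
import Groth.Agent.CohColim.Classes
import Groth.Prelude.Def_CohCx
import Groth.Prelude.Def_CohDer
import Groth.Prelude.Def_ModSite

/-!
# Free objects which see sums finitely
-/

set_option autoImplicit false
set_option linter.style.haveILetI false
set_option linter.unusedSectionVars false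
set_option backward.isDefEq.respectTransparency false
set_option backward.isDefEq.respectTransparency.types false
universe v u

open CategoryTheory Limits Opposite Abelian

namespace Groth.Agent.PCompactLib

noncomputable section

/-- Elements of the image of a coproduct are finite sums of images. -/
theorem exists_finsum_of_preserves {A : Type*} [Category* A] (G : A ⥤ AddCommGrpCat.{v})
    {ι : Type v} (X : ι → A) [HasCoproduct X] [PreservesColimit (Discrete.functor X) G]
    (x : G.obj (∐ X)) :
    ∃ (s : Finset ι) (y : ∀ i, G.obj (X i)), x = ∑ i ∈ s, (G.map (Sigma.ι X i)).hom (y i) := by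
  classical
  let Φ : DirectSum ι (fun i => G.obj (X i)) →+ G.obj (∐ X) :=
    DirectSum.toAddMonoid fun i => (G.map (Sigma.ι X i)).hom
  have h : Φ.range = ⊤ := by
    let q : G.obj (∐ X) ⟶ AddCommGrpCat.of (G.obj (∐ X) ⧸ Φ.range) :=
      AddCommGrpCat.ofHom (QuotientAddGroup.mk' Φ.range)
    have hq : q = 0 := (isColimitOfPreserves G (colimit.isColimit (Discrete.functor X))).hom_ext
      fun j => by
        obtain ⟨i⟩ := j
        ext y
        show QuotientAddGroup.mk' Φ.range ((G.map (Sigma.ι X i)).hom y) = _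
        exact ((QuotientAddGroup.eq_zero_iff _).2 (AddMonoidHom.mem_range.2
          ⟨DirectSum.of (fun i => G.obj (X i)) i y,
            DirectSum.toAddMonoid_of (fun i => (G.map (Sigma.ι X i)).hom) i y⟩)).trans rfl
    rw [eq_top_iff]
    intro y _
    exact (QuotientAddGroup.eq_zero_iff y).1 (ConcreteCategory.congr_hom hq y)
  obtain ⟨z, rfl⟩ := h ▸ AddSubgroup.mem_top x
  refine ⟨z.support, fun i => z i, ?_⟩
  conv_lhs => rw [← DirectSum.sum_support_of z]
  rw [map_sum]
  exact Finset.sum_congr rfl fun i _ => DirectSum.toAddMonoid_of _ i _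

section Ext

variable {A : Type u} [Category.{v} A] [Abelian A] [IsGrothendieckAbelian.{v} A] [HasExt.{v} A]
  (P : A)

theorem sumFin_of_preserves
    (h : ∀ ι : Type v, PreservesColimitsOfShape (Discrete ι) ((extFunctor 0).obj (op P))) :
    SumFin P := by
  intro ι X x
  haveI := h ι
  obtain ⟨s, y, hy⟩ := exists_finsum_of_preserves ((extFunctor 0).obj (op P)) X (Ext.mk₀ x)
  choose f hf using fun i => (Ext.mk₀_bijective P (X i)).2 (y i)
  refine ⟨s, f, (Ext.mk₀_bijective P _).1 ?_⟩
  refine hy.trans (Eq.trans ?_ (map_sum Ext.addEquiv₀.symm _ s).symm)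
  refine Finset.sum_congr rfl fun i _ => ?_
  rw [← hf i]
  exact Ext.mk₀_comp_mk₀ _ _

theorem sumAcy_of_preserves
    (h : ∀ (q : ℕ) (ι : Type v),
      PreservesColimitsOfShape (Discrete ι) ((extFunctor (q + 1)).obj (op P))) : SumAcy P := by
  intro ι X hX q
  haveI := h q ι
  refine subsingleton_of_forall_eq 0 fun x => ?_
  obtain ⟨s, y, hy⟩ := exists_finsum_of_preserves ((extFunctor (q + 1)).obj (op P)) X x
  refine hy.trans (Finset.sum_eq_zero fun i _ => ?_)
  haveI := hX i q
  have h0 : (id (y i) : Ext P (X i) (q + 1)) = 0 := Subsingleton.elim _ _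
  exact (congrArg _ h0).trans (map_zero _)

end Ext

section Mod

variable {C : Type u} [SmallCategory C] {J : GrothendieckTopology C} {O : Sheaf J CommRingCat.{u}}

open ModSite in
/-- `j_{U!} O_U` is projective for weakly contractible `U`. -/
theorem projective_freeOn {U : C} (hwc : CohSite.IsWeaklyContractible J U) :
    Projective (freeOn O U) := by
  refine ⟨fun {E X} f e _ => ?_⟩
  haveI : PreservesFiniteColimits (SheafOfModules.toSheaf.{u} (ringSh O)) :=
    SiteBase.preservesFiniteColimits_toSheaf _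
  haveI : Epi ((SheafOfModules.toSheaf.{u} (ringSh O)).map e) := inferInstance
  haveI : Sheaf.IsLocallySurjective ((SheafOfModules.toSheaf.{u} (ringSh O)).map e) :=
    (Sheaf.isLocallySurjective_iff_epi' AddCommGrpCat.{u} _).2 inferInstance
  obtain ⟨s, hs⟩ := CohSiteLib2.surjective_of_locSurj hwc ((SheafOfModules.toSheaf (ringSh O)).map e)
    (SiteBase.FreeOn.freeOnEquiv O U X f)
  refine ⟨(SiteBase.FreeOn.freeOnEquiv O U E).symm s, (SiteBase.FreeOn.freeOnEquiv O U X).injective ?_⟩
  rw [SiteBase.FreeOn.freeOnEquiv_comp, Equiv.apply_symm_apply]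
  exact hs

/-- The finite sum of projections and injections. -/
theorem sum_proj_ι {D : Type*} [Category D] [Preadditive D] {ι : Type*} [Fintype ι] (M : ι → D)
    [HasCoproduct M] : ∑ i, proj M i ≫ Sigma.ι M i = 𝟙 (∐ M) := by
  classical
  refine Sigma.hom_ext _ _ fun j => ?_
  rw [Preadditive.comp_sum, Category.comp_id, Finset.sum_eq_single j]
  · rw [reassoc_of% ι_proj_self M j]
  · intro i _ hi
    rw [reassoc_of% ι_proj_ne M (Ne.symm hi), zero_comp]
  · simp

open ModSite in
/-- Sums are seen finitely by `j_{U!} O_U` for `U` quasi-compact and weakly contractible. -/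
theorem sumFin_freeOn {U : C}
    (hqc : CohCx.IsQcObject ((presheafToSheaf J (Type u)).obj (yoneda.obj U)))
    (hwc : CohSite.IsWeaklyContractible J U) : SumFin (freeOn O U) := by
  classical
  intro ι X x
  let e := SiteBase.FreeOn.freeOnEquiv O U
  let m := e (∐ X) x
  obtain ⟨S, hS, hSm⟩ := FPLocal.locally_exists_finsum X m
  obtain ⟨n, V, g, hg, hgJ⟩ :=
    ToposFinLib.isQCSite_of_isQC (CohColim.isQC_of_isQcObject hqc) S hS
  choose A t ht using fun k => hSm (g k) (hg k)
  let T : Finset ι := Finset.univ.biUnion A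
  let φ : (∐ fun i : T => X i) ⟶ ∐ X := Sigma.desc fun i => Sigma.ι X i
  let ψ := (sheafCompose J (forget AddCommGrpCat.{u})).map
    ((SheafOfModules.toSheaf.{u} (ringSh O)).map φ)
  have hm : Presheaf.imageSieve ((SheafOfModules.toSheaf.{u} (ringSh O)).map φ).hom m ∈ J U := by
    refine J.superset_covering ((Sieve.generate_le_iff _ _).2 ?_) hgJ
    rintro _ _ ⟨k⟩
    refine ⟨∑ i ∈ A k, if h : i ∈ T then
      ((Sigma.ι (fun i : T => X i) ⟨i, h⟩).val.app (op (V k))).hom (t k i) else 0, ?_⟩
    refine ((map_sum (φ.val.app (op (V k))).hom _ _).trans ?_).trans (ht k).symm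
    refine Finset.sum_congr rfl fun i hi => ?_
    have hiT : i ∈ T := Finset.mem_biUnion.2 ⟨k, Finset.mem_univ k, hi⟩
    rw [dif_pos hiT]
    exact congrArg (fun f : X i ⟶ ∐ X => (f.val.app (op (V k))).hom (t k i))
      (Sigma.ι_desc (fun i : T => Sigma.ι X i.1) ⟨i, hiT⟩)
  have hm' : m ∈ ((Subfunctor.range ψ.hom).sheafify J).obj (op U) := hm
  obtain ⟨z, hz⟩ := hwc _ _ (Sheaf.toImage ψ) inferInstance ⟨m, hm'⟩
  let z' : freeOn O U ⟶ ∐ fun i : T => X i := (e _).symm z
  have hx : x = z' ≫ φ := by
    apply (e (∐ X)).injective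
    rw [SiteBase.FreeOn.freeOnEquiv_comp]
    simp only [z', e, Equiv.apply_symm_apply]
    exact (congrArg Subtype.val hz).symm
  refine ⟨T, fun i => if h : i ∈ T then z' ≫ proj (fun i : T => X i) ⟨i, h⟩ else 0, ?_⟩
  rw [← Finset.sum_attach T, hx]
  conv_lhs => rw [← Category.id_comp φ, ← sum_proj_ι (fun i : T => X i), Preadditive.sum_comp,
    Preadditive.comp_sum]
  refine Finset.sum_congr rfl fun i _ => ?_
  beta_reduce
  rw [dif_pos i.2, Category.assoc, Category.assoc]
  congr 2
  exact Sigma.ι_desc _ i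

end Mod

end

end Groth.Agent.PCompactLib
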