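import Groth.Agent.PCompactLib.Apps
import Groth.Agent.CohColim.Cartan
import Groth.Agent.SiteBase.ExtAdjoint
import Groth.Agent.SiteBase.Free
import Groth.Agent.SiteBase.ModCoh

/-!
# Free objects on members of a collection with finite coverings
-/

set_option autoImplicit false
set_option linter.style.haveILetI false
set_option linter.unusedSectionVars false
set_option backward.isDefEq.respectTransparency false
set_option backward.isDefEq.respectTransparency.types false
universe v u

open CategoryTheory Limits Opposite Abelian CoproductsFromFiniteFiltered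

namespace Groth.Agent.PCompactLib

noncomputable section

section General

variable {A : Type u} [Category.{v} A] [Abelian A] [IsGrothendieckAbelian.{v} A] [HasExt.{v} A]
  (P : A)

/-- If `Ext^q(P, -)` commutes with filtered colimits then classes in sums are finite sums. -/
theorem exists_finsum_of_extColim {q : ℕ} {ι : Type v}
    (h : CohColim.ExtColim (Finset (Discrete ι)) P q) (X : ι → A) (x : Ext P (∐ X) q) :
    ∃ (s : Finset ι) (y : ∀ i, Ext P (X i) q),
      x = ∑ i ∈ s, (y i).comp (Ext.mk₀ (Sigma.ι X i)) (add_zero q) := by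
  classical
  let L := liftToFinsetColimitCocone (Discrete.functor X)
  let e : colimit (liftToFinsetObj (Discrete.functor X)) ≅ ∐ X :=
    L.isColimit.coconePointUniqueUpToIso (colimit.isColimit (Discrete.functor X))
  have he : ∀ s : Finset (Discrete ι), colimit.ι (liftToFinsetObj (Discrete.functor X)) s ≫ e.hom =
      Sigma.desc fun i : s => Sigma.ι X i.1.as := fun s => by
    refine (colimit.ι_desc _ s).trans ?_
    rfl
  obtain ⟨s, z, hz⟩ := (h _).1 (x.comp (Ext.mk₀ e.inv) (add_zero q))
  let M : (s : Finset (Discrete ι)) → (s → A) := fun s i => X i.1.as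
  let z' : Ext P (∐ M s) q := z
  let π : ∀ i : ι, ∐ M s ⟶ X i := fun i =>
    if hi : Discrete.mk i ∈ s then proj (M s) ⟨_, hi⟩ else 0
  refine ⟨s.image Discrete.as, fun i => z'.comp (Ext.mk₀ (π i)) (add_zero q), ?_⟩
  have hx : x = z'.comp (Ext.mk₀ (Sigma.desc fun i : s => Sigma.ι X i.1.as)) (add_zero q) := by
    rw [← he s, ← Ext.mk₀_comp_mk₀, ← Ext.comp_assoc_of_second_deg_zero]
    show x = Ext.comp (z.comp (Ext.mk₀ (colimit.ι _ s)) (add_zero q)) (Ext.mk₀ e.hom) (add_zero q)
    rw [hz, Ext.comp_assoc_of_second_deg_zero, Ext.mk₀_comp_mk₀, Iso.inv_hom_id, Ext.comp_mk₀_id]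
  rw [hx, Finset.sum_image fun a _ b _ hab => Discrete.ext hab]
  conv_lhs => rw [← Category.id_comp (Sigma.desc fun i : s => Sigma.ι X i.1.as), ← sum_proj_ι (M s)]
  rw [Preadditive.sum_comp, Ext.mk₀_sum, Ext.comp_sum, ← Finset.sum_coe_sort s]
  refine Finset.sum_congr rfl fun i _ => ?_
  obtain ⟨⟨i⟩, hi⟩ := i
  rw [Category.assoc, Sigma.ι_desc, ← Ext.mk₀_comp_mk₀, ← Ext.comp_assoc_of_second_deg_zero]
  simp [π, hi]

end General

section Sites

variable {C : Type u} [SmallCategory C] [HasPullbacks C] {J : GrothendieckTopology C}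
  {O : Sheaf J CommRingCat.{u}} {B : Set C} {Cv : ∀ (U : C) (ι : Type u), (ι → Over U) → Prop}
  (hB : CohColim.FiniteCovs J B Cv) {U : C} (hU : U ∈ B)

include hB hU

theorem sumAcy_freeAb : SumAcy (SiteBase.freeAb J U) := by
  intro ι X hX q
  refine subsingleton_of_forall_eq 0 fun x => ?_
  obtain ⟨s, y, rfl⟩ := exists_finsum_of_extColim _
    (CohColim.extColim_cartan hB hU (q + 1) (Λ := Finset (Discrete ι))) X x
  refine Finset.sum_eq_zero fun i _ => ?_
  haveI := hX i q
  rw [Subsingleton.elim (y i) 0, Ext.zero_comp]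

theorem sumFin_freeAb : SumFin (SiteBase.freeAb J U) := by
  intro ι X x
  obtain ⟨s, y, hy⟩ := exists_finsum_of_extColim _
    (CohColim.extColim_cartan hB hU 0 (Λ := Finset (Discrete ι))) X (Ext.mk₀ x)
  choose f hf using fun i => (Ext.mk₀_bijective _ (X i)).2 (y i)
  refine ⟨s, f, (Ext.mk₀_bijective _ _).1 ?_⟩
  refine hy.trans (Eq.trans ?_ (map_sum Ext.addEquiv₀.symm _ s).symm)
  refine Finset.sum_congr rfl fun i _ => ?_
  rw [← hf i]
  exact Ext.mk₀_comp_mk₀ _ _

end Sites

section Mod

variable {C : Type u} [SmallCategory C] {J : GrothendieckTopology C} {O : Sheaf J CommRingCat.{u}}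

open ModSite

/-- The universal section of `j_{U!} O_U`. -/
def unitSec (O : Sheaf J CommRingCat.{u}) (U : C) :
    SiteBase.freeAb J U ⟶ (SheafOfModules.toSheaf (ringSh O)).obj (freeOn O U) :=
  (SiteBase.secEquiv U _).symm (SiteBase.FreeOn.freeOnEquiv O U _ (𝟙 _))

theorem secEquiv_unitSec (U : C) {F : ModSite.Mod O} (f : freeOn O U ⟶ F) :
    SiteBase.secEquiv U _ (unitSec O U ≫ (SheafOfModules.toSheaf (ringSh O)).map f) =
      SiteBase.FreeOn.freeOnEquiv O U F f := by
  rw [SiteBase.secEquiv_comp, unitSec, Equiv.apply_symm_apply]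
  conv_rhs => rw [← Category.id_comp f, SiteBase.FreeOn.freeOnEquiv_comp]
  rfl

theorem unitSec_bijective (U : C) (F : ModSite.Mod O) : Function.Bijective
    fun f : freeOn O U ⟶ F => unitSec O U ≫ (SheafOfModules.toSheaf (ringSh O)).map f := by
  refine (Function.Bijective.of_comp_iff' (SiteBase.secEquiv U _).bijective _).1 ?_
  rw [show (SiteBase.secEquiv U _ ∘ fun f : freeOn O U ⟶ F =>
      unitSec O U ≫ (SheafOfModules.toSheaf (ringSh O)).map f) =
      SiteBase.FreeOn.freeOnEquiv O U F from funext fun f => secEquiv_unitSec U f]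
  exact (SiteBase.FreeOn.freeOnEquiv O U F).bijective

variable [HasExt.{u} (ModSite.Mod O)]

/-- `Ext(j_{U!} O_U, F) ≃ H(U, F)`. -/
def extFreeOnEquiv (U : C) (F : ModSite.Mod O) (p : ℕ) :
    Ext.{u} (freeOn O U) F p ≃+
      Ext.{u} (SiteBase.freeAb J U) ((SheafOfModules.toSheaf (ringSh O)).obj F) p :=
  haveI : EnoughInjectives (ModSite.Mod O) :=
    SiteBase.enoughInjectives_sheafOfModules (ringSh O)
  SiteBase.extUnitEquiv (G := SheafOfModules.toSheaf (ringSh O)) (X := SiteBase.freeAb J U)
    (unitSec O U) (unitSec_bijective U)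
    (fun I _ m => haveI := SiteBase.isTotallyAcyclic_toSheaf_injective I (SiteBase.shYoneda J U) m
      (SiteBase.HKYonedaEquiv ((SheafOfModules.toSheaf (ringSh O)).obj I) (m + 1) U).toEquiv.subsingleton) F p

theorem isAcy_freeOn_iff (U : C) (F : ModSite.Mod O) :
    IsAcy (freeOn O U) F ↔ IsAcy (SiteBase.freeAb J U) ((SheafOfModules.toSheaf (ringSh O)).obj F) :=
  forall_congr' fun q => (extFreeOnEquiv U F (q + 1)).toEquiv.subsingleton_congr

variable [HasPullbacks C] {B : Set C} {Cv : ∀ (U : C) (ι : Type u), (ι → Over U) → Prop}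
  (hB : CohColim.FiniteCovs J B Cv) {U : C} (hU : U ∈ B)

include hB hU

theorem sumAcy_freeOn : SumAcy (freeOn O U) := by
  intro ι X hX
  rw [isAcy_freeOn_iff]
  haveI : PreservesColimit (Discrete.functor X) (SheafOfModules.toSheaf.{u} (ringSh O)) :=
    inferInstance
  exact isAcy_of_iso _ (PreservesCoproduct.iso (SheafOfModules.toSheaf.{u} (ringSh O)) X).symm
    (sumAcy_freeAb hB hU ι _ fun i => (isAcy_freeOn_iff U (X i)).1 (hX i))

theorem sumFin_freeOn_coll : SumFin (freeOn O U) := by
  intro ι X x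
  classical
  let G := SheafOfModules.toSheaf.{u} (ringSh O)
  obtain ⟨s, g, hg⟩ := sumFin_freeAb hB hU ι (fun i => G.obj (X i))
    ((unitSec O U ≫ G.map x) ≫ (PreservesCoproduct.iso G X).hom)
  choose f hf using fun i => (unitSec_bijective U (X i)).2 (g i)
  refine ⟨s, f, (unitSec_bijective U _).1 ?_⟩
  rw [← cancel_mono (PreservesCoproduct.iso G X).hom]
  refine hg.trans ?_
  show _ = (unitSec O U ≫ G.map _) ≫ _
  rw [Functor.map_sum, Preadditive.comp_sum, Preadditive.sum_comp]
  refine Finset.sum_congr rfl fun i _ => ?_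
  rw [Functor.map_comp, ← hf i, Category.assoc, Category.assoc]
  congr 1
  rw [← cancel_mono (PreservesCoproduct.iso G X).inv]
  simp only [Category.assoc, G]
  rw [Iso.hom_inv_id, PreservesCoproduct.inv_hom, ι_comp_sigmaComparison]
  erw [Category.comp_id]

end Mod

end

end Groth.Agent.PCompactLib
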