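import Groth.Agent.DCohMore.ExTri
import Groth.Agent.DCohLib.FlatCycles
import Groth.Agent.KInj.Lifting
import Groth.Prelude.Def_CohDer
import Mathlib.Algebra.Homology.DerivedCategory.Ext.ExactSequences
import Mathlib.Algebra.Homology.DerivedCategory.Ext.EnoughInjectives
import Mathlib.Algebra.Homology.Factorizations.CM5a

/-!
# Objects compact in degree zero
-/

set_option autoImplicit false
set_option linter.style.haveILetI false
universe w v u

open CategoryTheory Limits Abelian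

namespace Groth.Agent.PCompactLib

noncomputable section

variable {A : Type u} [Category.{v} A] [Abelian A] [IsGrothendieckAbelian.{v} A]

/-- A module with no higher `Ext` from `P`. -/
def IsAcy [HasExt.{v} A] (P X : A) : Prop := ∀ q : ℕ, Subsingleton (Ext P X (q + 1))

theorem isAcy_of_injective [HasExt.{v} A] (P X : A) [Injective X] : IsAcy P X :=
  fun q => ⟨fun a b => (Ext.eq_zero_of_injective a).trans (Ext.eq_zero_of_injective b).symm⟩

section

variable [HasExt.{v} A] (P : A)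

theorem isAcy_of_iso {X Y : A} (e : X ≅ Y) (h : IsAcy P X) : IsAcy P Y := fun q => by
  haveI := h q
  refine ⟨fun a b => ?_⟩
  have : ∀ c : Ext P Y (q + 1), (c.comp (Ext.mk₀ e.inv) (add_zero _)).comp (Ext.mk₀ e.hom)
      (add_zero _) = c := fun c => by
    rw [Ext.comp_assoc_of_third_deg_zero, Ext.mk₀_comp_mk₀, e.inv_hom_id, Ext.comp_mk₀_id]
  rw [← this a, ← this b, Subsingleton.elim (a.comp (Ext.mk₀ e.inv) (add_zero _))
    (b.comp (Ext.mk₀ e.inv) (add_zero _))]

theorem isAcy_of_isZero {X : A} (h : IsZero X) : IsAcy P X :=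
  haveI := h.injective
  isAcy_of_injective P X

/-- Vanishing of `Ext` of a quotient. -/
theorem subsingleton_ext_X₃ {S : ShortComplex A} (hS : S.ShortExact) (q : ℕ)
    (h₁ : Subsingleton (Ext P S.X₁ (q + 1 + 1))) (h₂ : Subsingleton (Ext P S.X₂ (q + 1))) :
    Subsingleton (Ext P S.X₃ (q + 1)) := by
  refine subsingleton_of_forall_eq 0 fun x => ?_
  obtain ⟨y, rfl⟩ := Ext.covariant_sequence_exact₃ P hS x rfl
    (Subsingleton.elim (α := Ext P S.X₁ (q + 1 + 1)) _ _)
  rw [Subsingleton.elim (α := Ext P S.X₂ (q + 1)) y 0, Ext.zero_comp]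

/-- The first two terms control the quotient. -/
theorem isAcy_X₃ {S : ShortComplex A} (hS : S.ShortExact) (h₁ : IsAcy P S.X₁) (h₂ : IsAcy P S.X₂) :
    IsAcy P S.X₃ := fun q => subsingleton_ext_X₃ P hS q (h₁ (q + 1)) (h₂ q)

/-- Acyclic complexes of acyclic objects have acyclic cycles, when `Ext` is eventually zero. -/
theorem isAcy_cycles_of_dim {Q : CochainComplex A ℤ} (hQ : Q.Acyclic) (hX : ∀ n, IsAcy P (Q.X n))
    (d : ℕ) (hd : ∀ (X : A) (q : ℕ), d < q → Subsingleton (Ext P X q)) (n : ℤ) :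
    IsAcy P (Q.cycles n) := by
  suffices ∀ (k : ℕ) (m : ℤ) (q : ℕ), d < q + 1 + k → Subsingleton (Ext P (Q.cycles m) (q + 1)) from
    fun q => this d n q (by omega)
  intro k
  induction k with
  | zero => exact fun m q hq => hd _ _ (by omega)
  | succ k ih =>
    intro m q hq
    exact subsingleton_ext_X₃ P (DCohLib.shortExact_cyclesSeqZ Q hQ (m - 1) m (by omega)) q
      (ih (m - 1) (q + 1) (by omega)) (hX (m - 1) q)

/-- Bounded below acyclic complexes of acyclic objects have acyclic cycles. -/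
theorem isAcy_cycles_of_bounded {Q : CochainComplex A ℤ} (hQ : Q.Acyclic)
    (hX : ∀ n, IsAcy P (Q.X n)) (a : ℤ) (ha : ∀ n, n < a → IsZero (Q.X n)) (n : ℤ) :
    IsAcy P (Q.cycles n) := by
  suffices ∀ (k : ℕ) (m : ℤ), m < a + k → IsAcy P (Q.cycles m) from
    this ((n - a).toNat + 1) n (by omega)
  intro k
  induction k with
  | zero => exact fun m hm => isAcy_of_isZero P ((ha m (by omega)).of_mono (Q.iCycles m))
  | succ k ih =>
    intro m hm
    exact isAcy_X₃ P (DCohLib.shortExact_cyclesSeqZ Q hQ (m - 1) m (by omega))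
      (ih (m - 1) (by omega)) (hX (m - 1))

/-- Acyclicity of the cycles makes `Hom(P, -)` exact. -/
theorem exists_d_of_comp_d_eq_zero {Q : CochainComplex A ℤ} (hQ : Q.Acyclic)
    (hZ : ∀ n, IsAcy P (Q.cycles n)) (i j k : ℤ) (hij : i + 1 = j) (hjk : j + 1 = k)
    (x : P ⟶ Q.X j) (hx : x ≫ Q.d j k = 0) : ∃ g : P ⟶ Q.X i, g ≫ Q.d i j = x := by
  let z := Q.liftCycles x k ((ComplexShape.up ℤ).next_eq' hjk) hx
  have hS := DCohLib.shortExact_cyclesSeqZ Q hQ i j hij
  haveI := hZ i 0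
  obtain ⟨y, hy⟩ := Ext.covariant_sequence_exact₃ P hS (Ext.mk₀ z) (rfl : 0 + 1 = 1)
    (Subsingleton.elim (α := Ext P (Q.cycles i) (0 + 1)) _ _)
  obtain ⟨g, rfl⟩ := (Ext.mk₀_bijective _ _).2 y
  rw [Ext.mk₀_comp_mk₀] at hy
  refine ⟨g, ?_⟩
  have := (Ext.mk₀_bijective _ _).1 hy
  calc g ≫ Q.d i j = g ≫ (Q.toCycles i j ≫ Q.iCycles j) := congrArg (g ≫ ·) (Q.toCycles_i i j).symm
    _ = (g ≫ Q.toCycles i j) ≫ Q.iCycles j := (Category.assoc _ _ _).symm
    _ = z ≫ Q.iCycles j := congrArg (· ≫ Q.iCycles j) this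
    _ = x := by simp [z]

end

variable (P : A)

/-- `P` in degree zero. -/
abbrev sgl : CochainComplex A ℤ := (CochainComplex.singleFunctor A 0).obj P

/-- The identification in degree zero. -/
def sglX : (sgl P).X 0 ≅ P := HomologicalComplex.singleObjXSelf (ComplexShape.up ℤ) 0 P

theorem isZero_sgl_X {n : ℤ} (hn : n ≠ 0) : IsZero ((sgl P).X n) :=
  HomologicalComplex.isZero_single_obj_X (ComplexShape.up ℤ) 0 P n hn

/-- A map out of `P[0]` is given by a cycle. -/
def deg0 {L : CochainComplex A ℤ} (f : sgl P ⟶ L) : P ⟶ L.X 0 := (sglX P).inv ≫ f.f 0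

theorem deg0_comp {L L' : CochainComplex A ℤ} (f : sgl P ⟶ L) (g : L ⟶ L') :
    deg0 P (f ≫ g) = deg0 P f ≫ g.f 0 :=
  (Category.assoc _ _ _).symm

theorem deg0_d {L : CochainComplex A ℤ} (f : sgl P ⟶ L) (j : ℤ) (hj : 0 + 1 = j) :
    deg0 P f ≫ L.d 0 j = 0 := by
  rw [deg0, Category.assoc, f.comm 0 j, (isZero_sgl_X P (n := j) (by omega)).eq_of_src (f.f j) 0,
    comp_zero, comp_zero]

theorem exists_deg0 {L : CochainComplex A ℤ} (x : P ⟶ L.X 0) (hx : x ≫ L.d 0 1 = 0) :
    ∃ f : sgl P ⟶ L, deg0 P f = x := by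
  refine ⟨HomologicalComplex.mkHomFromSingle x (fun j hj => ?_), ?_⟩
  · obtain rfl : 0 + 1 = j := hj
    exact hx
  · refine (congrArg ((sglX P).inv ≫ ·) (HomologicalComplex.mkHomFromSingle_f x _)).trans ?_
    exact (sglX P).inv_hom_id_assoc x

theorem deg0_injective {L : CochainComplex A ℤ} {f g : sgl P ⟶ L} (h : deg0 P f = deg0 P g) :
    f = g := by
  ext n
  by_cases hn : n = 0
  · subst hn
    exact (cancel_epi (sglX P).inv).1 h
  · exact (isZero_sgl_X P hn).eq_of_src _ _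

/-- Maps differing by a boundary are homotopic. -/
theorem nonempty_homotopy {L : CochainComplex A ℤ} (f g : sgl P ⟶ L) (h : P ⟶ L.X (-1))
    (hfg : deg0 P f = deg0 P g + h ≫ L.d (-1) 0) : Nonempty (Homotopy f g) := by
  let hom : ∀ i j : ℤ, (sgl P).X i ⟶ L.X j := fun i j =>
    if hij : i = 0 ∧ j = -1 then
      eqToHom (by rw [hij.1]) ≫ (sglX P).hom ≫ h ≫ eqToHom (by rw [hij.2]) else 0
  refine ⟨{ hom := hom, zero := fun i j hij => dif_neg ?_, comm := fun n => ?_ }⟩
  · rintro ⟨rfl, rfl⟩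
    exact hij (by simp)
  · by_cases hn : n = 0
    · subst hn
      rw [dNext_eq hom (show (ComplexShape.up ℤ).Rel 0 1 by simp),
        prevD_eq hom (show (ComplexShape.up ℤ).Rel (-1) 0 by simp)]
      simp only [hom, dif_neg (show ¬ ((1 : ℤ) = 0 ∧ (0 : ℤ) = -1) by omega),
        dif_pos (show (0 : ℤ) = 0 ∧ (-1 : ℤ) = -1 from ⟨rfl, rfl⟩), comp_zero, zero_add,
        eqToHom_refl, Category.id_comp, Category.comp_id]
      rw [← cancel_epi (sglX P).inv, Preadditive.comp_add, ← Category.assoc (sglX P).inv,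
        ← Category.assoc (sglX P).inv, Iso.inv_hom_id, Category.id_comp]
      exact hfg.trans (add_comm _ _)
    · exact (isZero_sgl_X P hn).eq_of_src _ _

variable [HasDerivedCategory.{w} A]

/-- A complex receiving all maps from `P[0]` as maps of complexes. -/
def Receives (L : CochainComplex A ℤ) : Prop :=
  ∀ γ : (DerivedCategory.singleFunctor A 0).obj P ⟶ DerivedCategory.Q.obj L,
    ∃ f : sgl P ⟶ L,
      ((DerivedCategory.singleFunctorIsoCompQ A 0).app P).hom ≫ DerivedCategory.Q.map f = γ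

theorem receives_of_kInjective (J : CochainComplex A ℤ) [J.IsKInjective] : Receives P J := by
  intro γ
  let e := (DerivedCategory.singleFunctorIsoCompQ A 0).app P
  let qm := HomotopyCategory.quotient A (ComplexShape.up ℤ)
  let ε := DerivedCategory.quotientCompQhIso A
  obtain ⟨g', hg'⟩ := (CochainComplex.IsKInjective.Qh_map_bijective
    (qm.obj ((CochainComplex.singleFunctor A 0).obj P)) J).surjective
    (ε.hom.app _ ≫ (e.inv ≫ γ) ≫ ε.inv.app J)
  obtain ⟨g, rfl⟩ := qm.map_surjective g'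
  refine ⟨g, ?_⟩
  rw [← cancel_epi e.inv, Iso.inv_hom_id_assoc, ← cancel_epi (ε.hom.app _), ← ε.hom.naturality g]
  dsimp only [Functor.comp_map]
  rw [hg']
  simp only [Category.assoc]
  erw [Iso.inv_hom_id_app]
  simp

/-- A complex with terms acyclic for `P` and exact cokernel in a K-injective one receives all maps. -/
theorem receives_of_acyclic [HasExt.{v} A] {L J : CochainComplex A ℤ} [J.IsKInjective]
    (i : L ⟶ J) [Mono i] [QuasiIso i] (hL : IsAcy P (L.X (-1)))
    (hZ : ∀ n, IsAcy P ((cokernel i).cycles n)) : Receives P L := by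
  intro γ
  haveI : IsIso (DerivedCategory.Q.map i) := inferInstance
  obtain ⟨f, hf⟩ := receives_of_kInjective P J (γ ≫ DerivedCategory.Q.map i)
  let Q := cokernel i
  let π : J ⟶ Q := cokernel.π i
  have hQ : Q.Acyclic := (KInj.quasiIso_iff_acyclic_cokernel i).1 inferInstance
  let S : ShortComplex (CochainComplex A ℤ) := ShortComplex.mk i π (cokernel.condition i)
  have hS : S.ShortExact := { exact := ShortComplex.exact_of_g_is_cokernel _ (cokernelIsCokernel i) }
  have hSn := fun n : ℤ => hS.map_of_exact (HomologicalComplex.eval A (ComplexShape.up ℤ) n)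
  let f₀ : P ⟶ J.X 0 := deg0 P f
  have hf₀ : f₀ ≫ J.d 0 1 = 0 := deg0_d P f 1 rfl
  have hc : (f₀ ≫ π.f 0) ≫ Q.d 0 1 = 0 := by
    rw [Category.assoc, π.comm 0 1, ← Category.assoc, hf₀, zero_comp]
  obtain ⟨g, hg⟩ := exists_d_of_comp_d_eq_zero P hQ hZ (-1) 0 1 (by omega) (by omega) _ hc
  haveI := hL 0
  obtain ⟨y, hy⟩ := Ext.covariant_sequence_exact₃ P (hSn (-1)) (Ext.mk₀ g) (rfl : 0 + 1 = 1)
    (Subsingleton.elim (α := Ext P (L.X (-1)) (0 + 1)) _ _)
  obtain ⟨g', rfl⟩ := (Ext.mk₀_bijective _ _).2 y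
  rw [Ext.mk₀_comp_mk₀] at hy
  have hg' : g' ≫ π.f (-1) = g := (Ext.mk₀_bijective _ _).1 hy
  have h₁ : (f₀ - g' ≫ J.d (-1) 0) ≫ π.f 0 = 0 := by
    refine (Preadditive.sub_comp _ _ _).trans (sub_eq_zero.2 ?_)
    refine hg.symm.trans ?_
    rw [← hg']
    exact ((Category.assoc _ _ _).trans (congrArg (g' ≫ ·) (π.comm (-1) 0))).trans (Category.assoc _ _ _).symm
  haveI := (hSn 0).mono_f
  let l : P ⟶ L.X 0 := (hSn 0).exact.lift (f₀ - g' ≫ J.d (-1) 0) h₁
  have hl : l ≫ i.f 0 = f₀ - g' ≫ J.d (-1) 0 := (hSn 0).exact.lift_f _ _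
  have hld : l ≫ L.d 0 1 = 0 := by
    haveI : Mono (i.f 1) := (hSn 1).mono_f
    rw [← cancel_mono (i.f 1), Category.assoc, ← i.comm 0 1, ← Category.assoc, hl, zero_comp,
      Preadditive.sub_comp, hf₀]
    exact (congrArg (0 - ·) ((Category.assoc _ _ _).trans
      ((congrArg (g' ≫ ·) (J.d_comp_d (-1) 0 1)).trans comp_zero))).trans (sub_zero 0)
  obtain ⟨F, hF⟩ := exists_deg0 P l hld
  refine ⟨F, ?_⟩
  rw [← cancel_mono (DerivedCategory.Q.map i), Category.assoc, ← Functor.map_comp, ← hf]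
  congr 1
  obtain ⟨H⟩ := nonempty_homotopy P (F ≫ i) f (-g') (by
    rw [deg0_comp, hF]
    exact hl.trans ((sub_eq_add_neg _ _).trans
      (congrArg (f₀ + ·) (Preadditive.neg_comp _ _).symm)))
  exact DerivedCategory.Q_map_eq_of_homotopy _ H

end

end Groth.Agent.PCompactLib
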