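import Groth.Agent.PCompactLib.LocLiftSite
import Mathlib.Algebra.Homology.DerivedCategory.ExactFunctor
import Mathlib.Algebra.Homology.DerivedCategory.Fractions

/-!
# Local factorisation out of strictly perfect complexes on a ringed site
-/

set_option autoImplicit false
set_option linter.style.haveILetI false
set_option linter.unusedSectionVars false
set_option backward.isDefEq.respectTransparency false
set_option backward.isDefEq.respectTransparency.types false
universe w w' u

open CategoryTheory Limits Opposite CategoryTheory.Pretriangulated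

namespace Groth.Agent.PCompactLib

noncomputable section

variable {C : Type u} [SmallCategory C] {J : GrothendieckTopology C} {O : Sheaf J CommRingCat.{u}}
variable [∀ W : C, (ModSite.restr O W).Additive]

open ModSite

/-- Local factorisation through a map inducing isomorphisms on cohomology in degrees `> a` and a
surjection in degree `a`. -/
theorem exists_sieve_factor [HasDerivedCategory.{w} (ModSite.Mod O)]
    {E F G : CochainComplex (ModSite.Mod O) ℤ} (α : E ⟶ F) (f : G ⟶ F)
    (hE : DCoh.IsStrictlyPerfectMod (ringSh O) E) (a : ℤ) (hEa : ∀ j : ℤ, j < a → IsZero (E.X j))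
    (hf : ∀ j : ℤ, a < j → IsIso (HomologicalComplex.homologyMap f j))
    (hfa : Epi (HomologicalComplex.homologyMap f a)) (V : C) :
    ∃ S ∈ J V, ∀ ⦃W : C⦄ (g : W ⟶ V), S.arrows g →
      ∃ β : ((restr O W).mapHomologicalComplex (ComplexShape.up ℤ)).obj E ⟶
          ((restr O W).mapHomologicalComplex (ComplexShape.up ℤ)).obj G,
        Nonempty (Homotopy (β ≫ ((restr O W).mapHomologicalComplex (ComplexShape.up ℤ)).map f)
          (((restr O W).mapHomologicalComplex (ComplexShape.up ℤ)).map α)) := by
  obtain ⟨S, hS, h⟩ := exists_homotopy_zero (R := ringSh O)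
    (α ≫ CochainComplex.mappingCone.inr f) hE a hEa
    (DCohLib.exactAt_mappingCone f a hf hfa) V
  refine ⟨S, hS, fun W g hg => ?_⟩
  obtain ⟨H⟩ := h g hg
  let R := restr O W
  let Kh := R.mapHomotopyCategory (ComplexShape.up ℤ)
  let M := R.mapHomologicalComplex (ComplexShape.up ℤ)
  let q := HomotopyCategory.quotient (ModSite.Mod (O.over W)) (ComplexShape.up ℤ)
  have hT := Kh.map_distinguished _ (HomotopyCategory.mappingCone_triangleh_distinguished f)
  have h0 : q.map (M.map (α ≫ CochainComplex.mappingCone.inr f)) = q.map 0 :=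
    HomotopyCategory.eq_of_homotopy _ _ H
  obtain ⟨b, hb⟩ := Triangle.coyoneda_exact₂ _ hT
    (show q.obj (M.obj E) ⟶ _ from q.map (M.map α)) (by
      rw [Functor.map_zero, Functor.map_comp, Functor.map_comp] at h0
      exact h0)
  obtain ⟨β, rfl⟩ := q.map_surjective (X := M.obj E) (Y := M.obj G) b
  refine ⟨β, ⟨HomotopyCategory.homotopyOfEq _ _ ?_⟩⟩
  rw [Functor.map_comp]
  exact hb.symm

variable [HasDerivedCategory.{w} (ModSite.Mod O)]
  [∀ W : C, HasDerivedCategory.{w'} (ModSite.Mod (O.over W))]
  [∀ W : C, PreservesFiniteColimits (restr O W)]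

/-- A morphism in the derived category out of a strictly perfect complex is locally given by a
morphism of complexes. -/
theorem exists_sieve_represent {E F : CochainComplex (ModSite.Mod O) ℤ}
    (hE : DCoh.IsStrictlyPerfectMod (ringSh O) E)
    (α : DerivedCategory.Q.obj E ⟶ DerivedCategory.Q.obj F) (V : C) :
    ∃ S ∈ J V, ∀ ⦃W : C⦄ (g : W ⟶ V), S.arrows g →
      ∃ α' : ((restr O W).mapHomologicalComplex (ComplexShape.up ℤ)).obj E ⟶
          ((restr O W).mapHomologicalComplex (ComplexShape.up ℤ)).obj F,
        (restr O W).mapDerivedCategory.map α =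
          (restr O W).mapDerivedCategoryFactors.hom.app E ≫ DerivedCategory.Q.map α' ≫
            (restr O W).mapDerivedCategoryFactors.inv.app F := by
  obtain ⟨G, s, hs, g, rfl⟩ := DerivedCategory.right_fac α
  obtain ⟨⟨a, b, hab⟩, -⟩ := id hE
  have hiso : ∀ n, IsIso (HomologicalComplex.homologyMap s n) := fun n =>
    (DCohLib.map_homologyFunctor_Q s n).1.1 inferInstance
  obtain ⟨S, hS, h⟩ := exists_sieve_factor (𝟙 E) s hE a (fun j hj => hab j (Or.inl hj))
    (fun j _ => hiso j) (haveI := hiso a; inferInstance) V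
  refine ⟨S, hS, fun W gW hgW => ?_⟩
  obtain ⟨γ, ⟨H⟩⟩ := h gW hgW
  let R := restr O W
  let M := R.mapHomologicalComplex (ComplexShape.up ℤ)
  let fac := R.mapDerivedCategoryFactors
  refine ⟨γ ≫ M.map g, ?_⟩
  have h1 : DerivedCategory.Q.map γ ≫ DerivedCategory.Q.map (M.map s) = 𝟙 _ := by
    rw [← Functor.map_comp, DerivedCategory.Q_map_eq_of_homotopy _ H, CategoryTheory.Functor.map_id,
      CategoryTheory.Functor.map_id]
  have h2 : ∀ {A B : CochainComplex (ModSite.Mod O) ℤ} (φ : A ⟶ B),
      R.mapDerivedCategory.map (DerivedCategory.Q.map φ) =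
        fac.hom.app A ≫ DerivedCategory.Q.map (M.map φ) ≫ fac.inv.app B := by
    intro A B φ
    refine Eq.trans ?_ (congrArg (fac.hom.app A ≫ ·) (fac.inv.naturality φ).symm)
    exact (fac.hom_inv_id_app_assoc _ _).symm
  rw [← cancel_epi (R.mapDerivedCategory.map (DerivedCategory.Q.map s)), ← Functor.map_comp,
    IsIso.hom_inv_id_assoc, h2, h2]
  have h3 : DerivedCategory.Q.map (M.map s) ≫ DerivedCategory.Q.map γ = 𝟙 _ := by
    haveI : IsIso (DerivedCategory.Q.map (M.map s)) := by
      have h4 : IsIso (R.mapDerivedCategory.map (DerivedCategory.Q.map s)) := inferInstance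
      rw [h2] at h4
      exact (isIso_comp_right_iff _ (fac.inv.app E)).1 ((isIso_comp_left_iff (fac.hom.app G) _).1 h4)
    rw [← cancel_mono (DerivedCategory.Q.map (M.map s)), Category.assoc, h1,
      Category.comp_id, Category.id_comp]
  simp only [Category.assoc, Functor.map_comp]
  rw [Iso.inv_hom_id_app_assoc, reassoc_of% h3]

end

end Groth.Agent.PCompactLib
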