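import Groth.Agent.FPLocal.Lift
import Groth.Agent.FPLocal.Basic
import Groth.Agent.DCohLib.LocHtp
import Groth.Prelude.Def_AlgSpPerf
import Groth.Prelude.Def_ModSite

/-!
# Local lifting out of strictly perfect complexes on a ringed site
-/

set_option autoImplicit false
set_option linter.style.haveILetI false
set_option linter.unusedSectionVars false
set_option backward.isDefEq.respectTransparency false
set_option backward.isDefEq.respectTransparency.types false
universe u

open CategoryTheory Limits Opposite Groth.Agent.FPLocal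

namespace Groth.Agent.PCompactLib

noncomputable section

variable {C : Type u} [SmallCategory C] {J : GrothendieckTopology C} {R : Sheaf J RingCat.{u}}

local instance additive_overFunctor' (X : C) : (SheafOfModules.overFunctor.{u} R X).Additive where
  map_add := rfl

/-- Restriction of morphisms of restricted modules along `h : W ⟶ V`. -/
def res {W V : C} (h : W ⟶ V) {M N : SheafOfModules.{u} R} (x : M.over V ⟶ N.over V) :
    M.over W ⟶ N.over W :=
  (SheafOfModules.overFunctorMap R h).inv.app M ≫ (SheafOfModules.overMap R h).map x ≫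
    (SheafOfModules.overFunctorMap R h).hom.app N

theorem res_map {W V : C} (h : W ⟶ V) {M N : SheafOfModules.{u} R} (φ : M ⟶ N) :
    res h ((SheafOfModules.overFunctor R V).map φ) = (SheafOfModules.overFunctor R W).map φ := by
  have e := (SheafOfModules.overFunctorMap R h).hom.naturality φ
  simp only [Functor.comp_map] at e
  rw [res, e, Iso.inv_hom_id_app_assoc]

theorem res_comp {W V : C} (h : W ⟶ V) {M N P : SheafOfModules.{u} R} (x : M.over V ⟶ N.over V)
    (y : N.over V ⟶ P.over V) : res h (x ≫ y) = res h x ≫ res h y := by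
  simp [res]

theorem res_zero {W V : C} (h : W ⟶ V) (M N : SheafOfModules.{u} R) :
    res h (0 : M.over V ⟶ N.over V) = 0 := by
  simp [res]

/-- A morphism out of the restriction of a direct summand of a finite free module lifts locally
along an epimorphism. -/
theorem exists_sieve_lift_over {E F G : SheafOfModules.{u} R} {I : Type u} [Finite I]
    (i : E ⟶ SheafOfModules.free I) (r : SheafOfModules.free I ⟶ E) (hir : i ≫ r = 𝟙 E)
    (p : G ⟶ F) [Epi p] {V : C} (φ : E.over V ⟶ F.over V) :
    ∃ S ∈ J V, ∀ ⦃W : C⦄ (g : W ⟶ V), S.arrows g →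
      ∃ l : E.over W ⟶ G.over W, l ≫ (SheafOfModules.overFunctor R W).map p = res g φ := by
  let x : I → (SheafOfModules.unit (R.over V) ⟶ F.over V) := fun j =>
    SheafOfModules.ιFree j ≫ (overFreeIso I V).hom ≫ (SheafOfModules.overFunctor R V).map r ≫ φ
  obtain ⟨S, hS, h⟩ := exists_sieve_preimage_family p (fun j => val₁ F (x j))
  refine ⟨S, hS, fun W g hg => ?_⟩
  obtain ⟨t, ht⟩ := h g hg
  refine ⟨(SheafOfModules.overFunctor R W).map i ≫ (overFreeIso I W).inv ≫ freeHomMk G t, ?_⟩
  have e : freeHomMk G t ≫ (SheafOfModules.overFunctor R W).map p =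
      (overFreeIso I W).hom ≫ (SheafOfModules.overFunctor R W).map r ≫ res g φ := by
    refine free_hom_ext fun j => val₁_injective F ?_
    rw [← Category.assoc, val₁_comp, val₁_ιFree_freeHomMk, ht, ← val₁_restrHom]
    congr 1
    simp only [x, restrHom, overFreeIso, SheafOfModules.ιFree_mapFreeIso_hom_assoc]
    rw [← (SheafOfModules.overFunctor R W).map_comp_assoc, ← res_map g, ← res_comp, res]
    rw [← (SheafOfModules.overFunctor R V).map_comp_assoc]
    rfl
  rw [Category.assoc, Category.assoc, e, Iso.inv_hom_id_assoc,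
    ← (SheafOfModules.overFunctor R W).map_comp_assoc, hir, CategoryTheory.Functor.map_id,
    Category.id_comp]

/-- Restriction of complexes. -/
abbrev rc (V : C) :
    CochainComplex (SheafOfModules.{u} R) ℤ ⥤ CochainComplex (SheafOfModules.{u} (R.over V)) ℤ :=
  (SheafOfModules.overFunctor R V).mapHomologicalComplex (ComplexShape.up ℤ)

/-- Restriction of complexes is transitive. -/
def rcMap {W V : C} (h : W ⟶ V) :
    rc (R := R) V ⋙ (SheafOfModules.overMap R h).mapHomologicalComplex (ComplexShape.up ℤ) ≅ rc W :=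
  NatIso.ofComponents
    (fun K => HomologicalComplex.Hom.isoOfComponents
      (fun i => (SheafOfModules.overFunctorMap R h).app (K.X i))
      (fun i j _ => ((SheafOfModules.overFunctorMap R h).hom.naturality (K.d i j)).symm))
    (fun φ => by
      ext i : 1
      exact (SheafOfModules.overFunctorMap R h).hom.naturality (φ.f i))

/-- Restriction of morphisms of restricted complexes. -/
def resC {W V : C} (h : W ⟶ V) {E F : CochainComplex (SheafOfModules.{u} R) ℤ}
    (β : (rc V).obj E ⟶ (rc V).obj F) : (rc W).obj E ⟶ (rc W).obj F :=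
  (rcMap h).inv.app E ≫ ((SheafOfModules.overMap R h).mapHomologicalComplex _).map β ≫
    (rcMap h).hom.app F

theorem resC_f {W V : C} (h : W ⟶ V) {E F : CochainComplex (SheafOfModules.{u} R) ℤ}
    (β : (rc V).obj E ⟶ (rc V).obj F) (i : ℤ) : (resC h β).f i = res h (β.f i) := rfl

theorem resC_map {W V : C} (h : W ⟶ V) {E F : CochainComplex (SheafOfModules.{u} R) ℤ}
    (α : E ⟶ F) : resC h ((rc V).map α) = (rc W).map α := by
  ext i : 1
  rw [resC_f]
  exact res_map h (α.f i)

/-- Restriction of homotopies. -/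
def resHomotopy {W V : C} (h : W ⟶ V) {E F : CochainComplex (SheafOfModules.{u} R) ℤ}
    {β β' : (rc V).obj E ⟶ (rc V).obj F} (H : Homotopy β β') :
    Homotopy (resC h β) (resC h β') :=
  (((SheafOfModules.overMap R h).mapHomotopy H).compRight _).compLeft _

open Classical in
theorem exists_homotopy_ge (a : ℤ) {E F : CochainComplex (SheafOfModules.{u} R) ℤ} (α : E ⟶ F)
    (hE : ∀ i, DCoh.IsFinFreeSummandMod R (E.X i)) (hF : ∀ i, a ≤ i → F.ExactAt i)
    (b : ℤ) (hb : ∀ i, b < i → IsZero (E.X i)) :
    ∀ (n : ℕ), a ≤ b + 1 - n → ∀ V : C, ∃ S ∈ J V, ∀ ⦃W : C⦄ (g : W ⟶ V), S.arrows g →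
      ∃ β : (rc W).obj E ⟶ (rc W).obj F, (∀ i, b + 1 - n ≤ i → β.f i = 0) ∧
        Nonempty (Homotopy ((rc W).map α) β) := by
  intro n
  induction n with
  | zero =>
    intro _ V
    refine ⟨⊤, J.top_mem V, fun W g _ => ⟨(rc W).map α, fun i hi => ?_, ⟨Homotopy.refl _⟩⟩⟩
    have h0 : α.f i = 0 := (hb i (by simp at hi; omega)).eq_of_src _ _
    show (SheafOfModules.overFunctor R W).map (α.f i) = 0
    rw [h0, Functor.map_zero]
  | succ n ih =>
    intro hn V
    obtain ⟨S, hS, hSW⟩ := ih (by push_cast at hn; omega) V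
    choose β hβ hH using hSW
    obtain ⟨k, hk⟩ : ∃ k : ℤ, k = b + 1 - ((n + 1 : ℕ) : ℤ) := ⟨_, rfl⟩
    have hka : a ≤ k := by omega
    let Z := kernel (F.d k (k + 1))
    let p : F.X (k - 1) ⟶ Z := kernel.lift _ (F.d (k - 1) k) (F.d_comp_d _ _ _)
    have hex : (F.sc' (k - 1) k (k + 1)).Exact :=
      (HomologicalComplex.exactAt_iff' F (k - 1) k (k + 1) (by simp) (by simp)).1 (hF k hka)
    haveI : Epi p := (F.sc' (k - 1) k (k + 1)).exact_iff_epi_kernel_lift.1 hex
    obtain ⟨m, iE, rE, hir⟩ := hE k
    have hlift : ∀ ⦃W : C⦄ (g : W ⟶ V) (hg : S.arrows g),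
        ∃ T ∈ J W, ∀ ⦃W' : C⦄ (g' : W' ⟶ W), T.arrows g' →
          ∃ l : (E.X k).over W' ⟶ (F.X (k - 1)).over W',
            l ≫ (SheafOfModules.overFunctor R W').map (F.d (k - 1) k) = res g' ((β g hg).f k) := by
      intro W g hg
      have h0 : (β g hg).f k ≫ (SheafOfModules.overFunctor R W).map (F.d k (k + 1)) = 0 := by
        refine ((β g hg).comm k (k + 1)).trans ?_
        rw [hβ g hg (k + 1) (by push_cast at hk; omega), comp_zero]
      haveI : PreservesFiniteLimits (SheafOfModules.overFunctor.{u} R W) :=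
        inferInstanceAs (PreservesFiniteLimits (SheafOfModules.pushforward.{u} (𝟙 (R.over W))))
      let φ : (E.X k).over W ⟶ Z.over W :=
        kernel.lift ((SheafOfModules.overFunctor R W).map (F.d k (k + 1))) ((β g hg).f k) h0 ≫
          (PreservesKernel.iso (SheafOfModules.overFunctor R W) (F.d k (k + 1))).inv
      have hφ : φ ≫ (SheafOfModules.overFunctor R W).map (kernel.ι _) = (β g hg).f k := by
        simp only [φ, Category.assoc]
        erw [PreservesKernel.iso_inv_ι, kernel.lift_ι]
      obtain ⟨T, hT, hl⟩ := exists_sieve_lift_over iE rE hir p φ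
      refine ⟨T, hT, fun W' g' hg' => ?_⟩
      obtain ⟨l, hl⟩ := hl g' hg'
      refine ⟨l, ?_⟩
      rw [← hφ, res_comp, res_map, ← hl, Category.assoc, ← Functor.map_comp, kernel.lift_ι]
    choose T hT l hl using hlift
    refine ⟨Sieve.bind S.arrows T, J.bind_covering hS hT, ?_⟩
    rintro W' g'' ⟨W, g', g, hg, hg', rfl⟩
    let G := rc (R := R) W'
    let h : ∀ i i', (ComplexShape.up ℤ).Rel i' i → ((G.obj E).X i ⟶ (G.obj F).X i') :=
      fun i i' _ =>
        if hi : i = k ∧ i' = k - 1 then
          eqToHom (show (G.obj E).X i = (G.obj E).X k by rw [hi.1]) ≫ l g hg g' hg' ≫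
            eqToHom (show (G.obj F).X (k - 1) = (G.obj F).X i' by rw [hi.2])
        else 0
    let β' := resC g' (β g hg) - Homotopy.nullHomotopicMap' h
    refine ⟨β', fun i hi => ?_, ⟨?_⟩⟩
    · rw [HomologicalComplex.sub_f_apply, sub_eq_zero,
        Homotopy.nullHomotopicMap'_f (k₂ := i - 1) (k₁ := i) (k₀ := i + 1) (by simp) (by simp)]
      dsimp only [h]
      rw [dif_neg (by omega), comp_zero, zero_add, resC_f]
      rcases eq_or_lt_of_le (hk.trans_le hi) with rfl | hlt
      · rw [dif_pos ⟨rfl, rfl⟩]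
        erw [eqToHom_refl, eqToHom_refl, Category.id_comp, Category.comp_id]
        exact (hl g hg g' hg').symm
      · rw [dif_neg (by omega), zero_comp, hβ g hg i (by push_cast at hk; omega)]
        exact res_zero g' _ _
    · exact ((Homotopy.ofEq (resC_map g' α).symm).trans (resHomotopy g' (hH g hg).some)).trans
        ((Homotopy.ofEq (show resC g' (β g hg) = β' + Homotopy.nullHomotopicMap' h by simp [β'])).trans
          (((Homotopy.refl β').add (Homotopy.nullHomotopy' h)).trans (Homotopy.ofEq (add_zero _))))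

/-- A map from a strictly perfect complex zero below `a` to a complex exact in degrees `≥ a` is
locally null-homotopic. -/
theorem exists_homotopy_zero {E F : CochainComplex (SheafOfModules.{u} R) ℤ} (α : E ⟶ F)
    (hE : DCoh.IsStrictlyPerfectMod R E) (a : ℤ) (hEa : ∀ i, i < a → IsZero (E.X i))
    (hF : ∀ i, a ≤ i → F.ExactAt i) (V : C) :
    ∃ S ∈ J V, ∀ ⦃W : C⦄ (g : W ⟶ V), S.arrows g → Nonempty (Homotopy ((rc W).map α) 0) := by
  obtain ⟨⟨c, b, hab⟩, hfree⟩ := hE
  obtain ⟨b', hb', hb'a⟩ : ∃ b', b ≤ b' ∧ a ≤ b' + 1 := ⟨max b a, by omega, by omega⟩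
  obtain ⟨S, hS, h⟩ := exists_homotopy_ge a α hfree hF b'
    (fun i hi => hab i (Or.inr (by omega))) (b' + 1 - a).toNat (by omega) V
  refine ⟨S, hS, fun W g hg => ?_⟩
  obtain ⟨β, hβ, ⟨H⟩⟩ := h g hg
  have : β = 0 := by
    ext i : 1
    rcases lt_or_ge i a with hi | hi
    · exact ((SheafOfModules.overFunctor R W).map_isZero (hEa i hi)).eq_of_src _ _
    · exact hβ i (by omega)
  exact ⟨H.trans (Homotopy.ofEq this)⟩

end

end Groth.Agent.PCompactLib
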