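import Groth.Agent.PCompactLib.Retract
import Groth.Agent.PCompactLib.Apps
import Mathlib.CategoryTheory.Generator.Basic

/-!
# Free objects on quasi-compact objects see sums finitely
-/

set_option autoImplicit false
set_option linter.style.haveILetI false
set_option linter.unusedSectionVars false
set_option backward.isDefEq.respectTransparency false
set_option backward.isDefEq.respectTransparency.types false
universe v u

open CategoryTheory Limits Opposite ModSite

namespace Groth.Agent.PCompactLib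

noncomputable section

theorem sumFin_of_preservesHom {A : Type u} [Category.{v} A] [Abelian A] [IsGrothendieckAbelian.{v} A]
    (E : A) (h : ∀ ι : Type v, PreservesColimitsOfShape (Discrete ι) (preadditiveCoyoneda.obj (op E))) :
    SumFin E := by
  intro ι X x
  haveI := h ι
  obtain ⟨s, y, hy⟩ := exists_finsum_of_preserves (preadditiveCoyoneda.obj (op E)) X x
  exact ⟨s, y, hy⟩

variable {C : Type u} [SmallCategory C] {J : GrothendieckTopology C} {O : Sheaf J CommRingCat.{u}}

/-- Sums are seen finitely by `j_{U!} O_U` for `U` quasi-compact. -/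
theorem sumFin_freeOn_qc {U : C}
    (hqc : CohCx.IsQcObject ((presheafToSheaf J (Type u)).obj (yoneda.obj U))) :
    SumFin (freeOn O U) := by
  classical
  intro ι X x
  let e := SiteBase.FreeOn.freeOnEquiv O U
  let m := e (∐ X) x
  obtain ⟨S, hS, hSm⟩ := FPLocal.locally_exists_finsum X m
  obtain ⟨n, V, g, hg, hgJ⟩ :=
    ToposFinLib.isQCSite_of_isQC (CohColim.isQC_of_isQcObject hqc) S hS
  choose A t ht using fun k => hSm (g k) (hg k)
  let T : Finset ι := Finset.univ.biUnion A
  let π := toFin X T ≫ ofFin X T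
  have hπ : ∀ i ∈ T, Sigma.ι X i ≫ π = Sigma.ι X i := fun i hi => by
    simp [π, toFin, ofFin, hi]
  have hm : π.val.app (op U) m = m := by
    refine ((isSheaf_iff_isSheaf_of_type _ _).1
      ((sheafCompose J (forget AddCommGrpCat.{u})).obj (ModSite.toAb (∐ X))).property
        (Sieve.ofArrows V g) hgJ).isSeparatedFor.ext fun Z q hq => ?_
    obtain ⟨k, a, rfl⟩ := (Sieve.mem_ofArrows_iff _ _ _).1 hq
    show (∐ X).val.map (a ≫ g k).op (π.val.app (op U) m) = (∐ X).val.map (a ≫ g k).op m
    rw [op_comp, PresheafOfModules.map_comp_apply, PresheafOfModules.map_comp_apply,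
      ← PresheafOfModules.naturality_apply π.val (g k).op m]
    congr 1
    refine (congrArg (π.val.app (op (V k))).hom (ht k)).trans
      (((map_sum (π.val.app (op (V k))).hom _ _).trans ?_).trans (ht k).symm)
    refine Finset.sum_congr rfl fun i hi => ?_
    exact congrArg (fun f : X i ⟶ ∐ X => (f.val.app (op (V k))).hom (t k i))
      (hπ i (Finset.mem_biUnion.2 ⟨k, Finset.mem_univ k, hi⟩))
  have hx : x = x ≫ π := by
    apply (e (∐ X)).injective
    rw [SiteBase.FreeOn.freeOnEquiv_comp]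
    exact hm.symm
  refine ⟨T, fun i => if h : i ∈ T then (x ≫ toFin X T) ≫ proj (fun i : T => X i) ⟨i, h⟩ else 0, ?_⟩
  rw [← Finset.sum_attach T, hx]
  conv_lhs => rw [show π = toFin X T ≫ ofFin X T from rfl, ← Category.id_comp (ofFin X T),
    ← sum_proj_ι (fun i : T => X i), Preadditive.sum_comp, Preadditive.comp_sum, Preadditive.comp_sum]
  refine Finset.sum_congr rfl fun i _ => ?_
  beta_reduce
  rw [dif_pos i.2, ← hx]
  simp [ofFin]

/-- Modules are quotients of sums of `j_{U!} O_U` for enough quasi-compact `U`. -/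
theorem exists_epi_freeOn
    (hC : ∀ V : C, ∃ R ∈ J V, ∀ ⦃W : C⦄ (g : W ⟶ V), R g →
      ∃ (U : C) (a : W ⟶ U) (b : U ⟶ V),
        CohCx.IsQcObject ((presheafToSheaf J (Type u)).obj (yoneda.obj U)) ∧ a ≫ b = g)
    (M : ModSite.Mod O) :
    ∃ (Y : ModSite.Mod O) (π : Y ⟶ M),
      IsSum {E | ∃ U, CohCx.IsQcObject ((presheafToSheaf J (Type u)).obj (yoneda.obj U)) ∧
        E = freeOn O U} Y ∧ Epi π := by
  let G : Set C := {U | CohCx.IsQcObject ((presheafToSheaf J (Type u)).obj (yoneda.obj U))}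
  let I := Σ U : G, (M.val.obj (op U.1) : Type u)
  let F : I → ModSite.Mod O := fun i => freeOn O i.1.1
  let π : ∐ F ⟶ M := Sigma.desc fun i => (SiteBase.FreeOn.freeOnEquiv O i.1.1 M).symm i.2
  refine ⟨∐ F, π, ⟨I, F, fun i => ⟨i.1.1, i.1.2, rfl⟩, ⟨Iso.refl _⟩⟩, ⟨fun {W} a b hab => ?_⟩⟩
  refine SiteBase.FreeOn.isSeparating_freeOn O G (fun X => ?_) a b ?_
  · obtain ⟨R, hR, hRU⟩ := hC X
    choose U a b hq hab using hRU
    let ι := Σ Z : C, {g : Z ⟶ X // R g}
    refine ⟨ι, fun i => U i.2.1 i.2.2, fun i => b i.2.1 i.2.2, J.superset_covering ?_ hR,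
      fun i => hq i.2.1 i.2.2⟩
    intro Z g hg
    exact (Sieve.mem_ofArrows_iff _ _ _).2 ⟨⟨Z, g, hg⟩, a g hg, (hab g hg).symm⟩
  · intro E hE h
    obtain ⟨Z⟩ := hE
    let i : I := ⟨Z, SiteBase.FreeOn.freeOnEquiv O Z.1 M h⟩
    have hi : Sigma.ι F i ≫ π = h :=
      (Sigma.ι_desc _ i).trans (Equiv.symm_apply_apply _ h)
    rw [← hi, Category.assoc, Category.assoc, hab]

end

end Groth.Agent.PCompactLib
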