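import Mathlib
import Groth.Agent.KInj.Functorial

/-!
# Complexes as colimits of bounded complexes of sums of generators
-/

set_option autoImplicit false
set_option linter.style.haveILetI false
set_option linter.unusedSectionVars false
universe v u

open CategoryTheory Limits Preadditive CochainComplex CochainComplex.HomComplex

namespace Groth.Agent.PCompactLib

noncomputable section

variable {A : Type u} [Category.{v} A] [Abelian A] [IsGrothendieckAbelian.{v} A] (S : Set A)

/-- Sums of members of `S`. -/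
def IsSum (X : A) : Prop :=
  ∃ (ι : Type v) (E : ι → A), (∀ i, E i ∈ S) ∧ Nonempty (X ≅ ∐ E)

theorem isSum_of_iso {X Y : A} (e : X ≅ Y) (h : IsSum S X) : IsSum S Y := by
  obtain ⟨ι, E, hE, ⟨e'⟩⟩ := h
  exact ⟨ι, E, hE, ⟨e.symm ≪≫ e'⟩⟩

theorem isSum_of_isZero {X : A} (h : IsZero X) : IsSum S X := by
  refine ⟨PEmpty.{v + 1}, fun i => i.elim, fun i => i.elim, ⟨h.iso ?_⟩⟩
  exact (IsZero.iff_id_eq_zero _).2 (Sigma.hom_ext _ _ fun i => i.elim)

theorem isSum_biprod {X Y : A} (hX : IsSum S X) (hY : IsSum S Y) : IsSum S (X ⊞ Y) := by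
  obtain ⟨ι, E, hE, ⟨e⟩⟩ := hX
  obtain ⟨κ, F, hF, ⟨e'⟩⟩ := hY
  let G : ι ⊕ κ → A := Sum.elim E F
  refine ⟨ι ⊕ κ, G, Sum.rec hE hF, ⟨biprod.mapIso e e' ≪≫
    { hom := biprod.desc (Sigma.desc fun i => Sigma.ι G (.inl i))
        (Sigma.desc fun i => Sigma.ι G (.inr i))
      inv := Sigma.desc (fun k => match k with
        | .inl i => Sigma.ι E i ≫ biprod.inl
        | .inr i => Sigma.ι F i ≫ biprod.inr)
      hom_inv_id := ?_
      inv_hom_id := ?_ }⟩⟩
  · apply biprod.hom_ext'
    · refine Sigma.hom_ext _ _ fun i => ?_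
      simp
      exact Sigma.ι_desc _ _
    · refine Sigma.hom_ext _ _ fun i => ?_
      simp
      exact Sigma.ι_desc _ _
  · refine Sigma.hom_ext _ _ fun k => ?_
    rcases k with i | i <;> simp <;> exact Sigma.ι_desc _ _

variable (hgen : ∀ X : A, ∃ (Y : A) (π : Y ⟶ X), IsSum S Y ∧ Epi π)

include hgen in
theorem exists_cover (X : A) (c : Prop) :
    ∃ (Y : A) (π : Y ⟶ X), IsSum S Y ∧ (c → Epi π) ∧ (¬c → IsZero Y) := by
  by_cases hc : c
  · obtain ⟨Y, π, h1, h2⟩ := hgen X
    exact ⟨Y, π, h1, fun _ => h2, fun h => absurd hc h⟩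
  · have hz : IsZero (∐ fun i : PEmpty.{v + 1} => (i.elim : A)) :=
      (IsZero.iff_id_eq_zero _).2 (Sigma.hom_ext _ _ fun i => i.elim)
    exact ⟨_, 0, isSum_of_isZero S hz, fun h => absurd h hc, fun _ => hz⟩

/-- A bounded complex of sums over a given complex. -/
structure Stage (M : CochainComplex A ℤ) where
  /-- The complex. -/
  P : CochainComplex A ℤ
  /-- The map. -/
  φ : P ⟶ M
  /-- A bound on the degrees. -/
  bound : ℕ
  isSum : ∀ j, IsSum S (P.X j)
  isZero : ∀ j : ℤ, (bound : ℤ) < j ∨ j < -(bound : ℤ) → IsZero (P.X j)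

variable {M P : CochainComplex A ℤ} (φ : P ⟶ M)

/-- The pairs of a cycle and a primitive of its image. -/
def rel (j : ℤ) : P.X j ⊞ M.X (j - 1) ⟶ P.X (j + 1) ⊞ M.X j :=
  biprod.desc (biprod.lift (P.d j (j + 1)) (φ.f j)) (biprod.lift 0 (-M.d (j - 1) j))

theorem rel_comp {T : A} {j : ℤ} (x : T ⟶ P.X j) (y : T ⟶ M.X (j - 1))
    (h₁ : x ≫ P.d j (j + 1) = 0) (h₂ : x ≫ φ.f j = y ≫ M.d (j - 1) j) :
    biprod.lift x y ≫ rel φ j = 0 := by
  rw [rel, biprod.lift_desc]
  apply biprod.hom_ext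
  · simp [h₁]
  · simp [h₂]

theorem rel_fst (j : ℤ) :
    (kernel.ι (rel φ j) ≫ biprod.fst) ≫ P.d j (j + 1) = 0 := by
  have e : rel φ j ≫ biprod.fst = biprod.fst ≫ P.d j (j + 1) := by
    apply biprod.hom_ext' <;> simp [rel]
  rw [Category.assoc, ← e, kernel.condition_assoc, zero_comp]

theorem rel_snd (j : ℤ) :
    (kernel.ι (rel φ j) ≫ biprod.fst) ≫ φ.f j =
      (kernel.ι (rel φ j) ≫ biprod.snd) ≫ M.d (j - 1) j := by
  have e : rel φ j ≫ biprod.snd = biprod.fst ≫ φ.f j - biprod.snd ≫ M.d (j - 1) j := by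
    apply biprod.hom_ext' <;> simp [rel]
  rw [← sub_eq_zero, Category.assoc, Category.assoc, ← comp_sub, ← e, kernel.condition_assoc,
    zero_comp]

include hgen in
theorem exists_next {M : CochainComplex A ℤ} (s : Stage S M) (n : ℕ) :
    ∃ (s' : Stage S M) (f : s.P ⟶ s'.P), f ≫ s'.φ = s.φ ∧
      (∀ j : ℤ, -(n : ℤ) ≤ j → j ≤ n → Epi (HomologicalComplex.homologyMap s'.φ (j - 1))) ∧
      (∀ j : ℤ, -(n : ℤ) ≤ j → j ≤ n → kernel.ι (HomologicalComplex.homologyMap s.φ j) ≫
        HomologicalComplex.homologyMap f j = 0) := by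
  choose Y π hY hπ hY0 using fun j : ℤ =>
    exists_cover S hgen (kernel (rel s.φ j)) (-(n : ℤ) ≤ j ∧ j ≤ n)
  let T : CochainComplex A ℤ := { X := Y, d := fun _ _ => 0 }
  let α : T ⟶ s.P :=
    { f := fun j => π j ≫ kernel.ι (rel s.φ j) ≫ biprod.fst
      comm' := fun i j hij => by
        obtain rfl : i + 1 = j := hij
        simp only [T, zero_comp, Category.assoc]
        have h := rel_fst s.φ i
        rw [Category.assoc] at h
        rw [h, comp_zero] }
  let h : Cochain T M (-1) := Cochain.mk fun p q hpq =>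
    π p ≫ kernel.ι (rel s.φ p) ≫ biprod.snd ≫ (M.XIsoOfEq (show p - 1 = q by omega)).hom
  have eq : δ (-1) 0 h = Cochain.ofHom (α ≫ s.φ) := by
    ext p
    rw [δ_v (-1) 0 (by simp) h p p (add_zero p) (p - 1) (p + 1) rfl rfl]
    simp only [T, zero_comp, smul_zero, add_zero, h, Cochain.mk_v, Cochain.ofHom_v,
      HomologicalComplex.comp_f, α, Category.assoc]
    have hs := rel_snd s.φ p
    simp only [Category.assoc] at hs
    rw [hs]
    simp [HomologicalComplex.XIsoOfEq]
  let P' := mappingCone α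
  refine ⟨⟨P', mappingCone.desc α h s.φ eq, s.bound + n + 1, fun j => ?_, fun j hj => ?_⟩,
    mappingCone.inr α, mappingCone.inr_desc α h s.φ eq, fun j h₁ h₂ => ?_, fun j h₁ h₂ => ?_⟩
  · exact isSum_of_iso S (HomologicalComplex.homotopyCofiber.XIsoBiprod α j (j + 1) rfl).symm
      (isSum_biprod S (hY (j + 1)) (s.isSum j))
  · refine IsZero.of_iso ?_ (HomologicalComplex.homotopyCofiber.XIsoBiprod α j (j + 1) rfl)
    exact (biprod_isZero_iff _ _).2 ⟨hY0 (j + 1) (by omega), s.isZero j (by omega)⟩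
  · rw [HomologicalComplex.epi_homologyMap_iff_up_to_refinements _ (j - 1 - 1) (j - 1) j
      (by simp) (by simp)]
    intro B y hy
    haveI := hπ j ⟨h₁, h₂⟩
    obtain ⟨A', q, hq, t, ht⟩ := surjective_up_to_refinements_of_epi (π j)
      (kernel.lift (rel s.φ j) (biprod.lift 0 y) (rel_comp s.φ 0 y zero_comp (by simp [hy])))
    have ht' := congrArg (· ≫ kernel.ι (rel s.φ j)) ht
    simp only [Category.assoc, kernel.lift_ι] at ht'
    have hfst := congrArg (· ≫ biprod.fst) ht'
    have hsnd := congrArg (· ≫ biprod.snd) ht'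
    simp only [Category.assoc, biprod.lift_fst, biprod.lift_snd, comp_zero] at hfst hsnd
    refine ⟨A', q, hq, t ≫ (mappingCone.inl α).v j (j - 1) (by omega), ?_, 0, ?_⟩
    · rw [Category.assoc, mappingCone.inl_v_d α j (j - 1) (j + 1) (by omega) (by omega)]
      simp only [T, zero_comp, sub_zero]
      show t ≫ (π j ≫ kernel.ι (rel s.φ j) ≫ biprod.fst) ≫ _ = 0
      simp only [Category.assoc]
      rw [reassoc_of% hfst.symm, zero_comp]
    · rw [zero_comp, add_zero, Category.assoc, mappingCone.inl_v_desc_f]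
      simpa [h, HomologicalComplex.XIsoOfEq] using hsnd
  · refine (cancel_epi (𝟙 _)).1 ?_
    rw [Category.id_comp, comp_zero]
    obtain ⟨A', q, hq, z, hz, hzq⟩ := s.P.eq_liftCycles_homologyπ_up_to_refinements
      (kernel.ι (HomologicalComplex.homologyMap s.φ j)) (j + 1) (by simp)
    rw [← cancel_epi q, comp_zero, ← Category.assoc, hzq, Category.assoc,
      HomologicalComplex.homologyπ_naturality, HomologicalComplex.liftCycles_comp_cyclesMap_assoc,
      HomologicalComplex.liftCycles_comp_homologyπ_eq_zero_iff_up_to_refinements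
        _ (j - 1) j (j + 1) (by simp) (by simp)]
    have hz0 : s.P.liftCycles z (j + 1) (by simp) hz ≫ s.P.homologyπ j ≫
        HomologicalComplex.homologyMap s.φ j = 0 := by
      rw [← Category.assoc, ← hzq, Category.assoc, kernel.condition, comp_zero]
    rw [HomologicalComplex.homologyπ_naturality, HomologicalComplex.liftCycles_comp_cyclesMap_assoc,
      HomologicalComplex.liftCycles_comp_homologyπ_eq_zero_iff_up_to_refinements
        _ (j - 1) j (j + 1) (by simp) (by simp)] at hz0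
    obtain ⟨A'', q', hq', y, hy⟩ := hz0
    haveI := hπ j ⟨h₁, h₂⟩
    obtain ⟨B, r, hr, t, ht⟩ := surjective_up_to_refinements_of_epi (π j)
      (kernel.lift (rel s.φ j) (biprod.lift (q' ≫ z) y)
        (rel_comp s.φ _ y (by rw [Category.assoc, hz, comp_zero]) (by rw [Category.assoc]; exact hy)))
    have ht' := congrArg (· ≫ kernel.ι (rel s.φ j) ≫ biprod.fst) ht
    simp only [Category.assoc, kernel.lift_ι_assoc, biprod.lift_fst] at ht'
    refine ⟨B, r ≫ q', inferInstance, t ≫ (mappingCone.inl α).v j (j - 1) (by omega), ?_⟩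
    rw [Category.assoc, Category.assoc, mappingCone.inl_v_d α j (j - 1) (j + 1) (by omega) (by omega)]
    simp only [T, zero_comp, sub_zero]
    show _ = t ≫ (π j ≫ kernel.ι (rel s.φ j) ≫ biprod.fst) ≫ _
    simp only [Category.assoc]
    rw [← reassoc_of% ht']

end

end Groth.Agent.PCompactLib
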