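import Groth.Agent.PCompactLib.Resol
import Mathlib.CategoryTheory.Limits.Connected
import Mathlib.CategoryTheory.Functor.OfSequence

/-!
# The colimit of the approximating tower
-/

set_option autoImplicit false
set_option linter.style.haveILetI false
set_option linter.unusedSectionVars false
set_option backward.isDefEq.respectTransparency false
set_option backward.isDefEq.respectTransparency.types false
universe w v u

open CategoryTheory Limits ZeroObject

namespace Groth.Agent.PCompactLib

noncomputable section

/-- Homology commutes with exact colimits. -/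
theorem nonempty_isColimit_homology' {C : Type u} [Category.{v} C] [Abelian C] {J : Type w}
    [Category J] [HasColimitsOfShape J C] [HasExactColimitsOfShape J C]
    {K : J ⥤ CochainComplex C ℤ} {s : Cocone K} (hs : IsColimit s) (n : ℤ) :
    Nonempty (IsColimit ((HomologicalComplex.homologyFunctor C (ComplexShape.up ℤ) n).mapCocone s)) := by
  let c := ComplexShape.up ℤ
  let E := fun m => HomologicalComplex.eval C c m
  let e : ∀ m, colimit (K ⋙ E m) ≅ s.pt.X m := fun m =>
    (colimit.isColimit _).coconePointUniqueUpToIso (isColimitOfPreserves (E m) hs)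
  have he : ∀ m i, colimit.ι (K ⋙ E m) i ≫ (e m).hom = (s.ι.app i).f m := fun m i =>
    IsColimit.comp_coconePointUniqueUpToIso_hom _ _ i
  let dnat : ∀ a b, K ⋙ E a ⟶ K ⋙ E b := fun a b =>
    { app := fun i => (K.obj i).d a b
      naturality := fun i j f => (K.map f).comm a b }
  let S : ShortComplex (J ⥤ C) :=
    ShortComplex.mk (dnat (c.prev n) n) (dnat n (c.next n))
      (NatTrans.ext (funext fun i => (K.obj i).d_comp_d _ _ _))
  have comm : ∀ a b, colim.map (dnat a b) ≫ (e b).hom = (e a).hom ≫ s.pt.d a b := fun a b => by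
    refine colimit.hom_ext fun i => ?_
    rw [show colim.map (dnat a b) = colimMap (dnat a b) from rfl, ι_colimMap_assoc, he,
      reassoc_of% (he a i)]
    refine Eq.trans ?_ ((s.ι.app i).comm a b).symm
    rfl
  let iC : S.map colim ≅ s.pt.sc n :=
    ShortComplex.isoMk (e (c.prev n)) (e n) (e (c.next n)) (comm _ _).symm (comm _ _).symm
  let θ : colimit S.homology ≅ s.pt.homology n :=
    (S.mapHomologyIso colim).symm ≪≫ ShortComplex.homologyMapIso iC
  let ψ : ∀ j : J, (K.obj j).homology n ≅ S.homology.obj j := fun j =>
    S.mapHomologyIso ((evaluation J C).obj j)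
  let ν : K ⋙ HomologicalComplex.homologyFunctor C c n ≅ S.homology :=
    NatIso.ofComponents ψ (fun {i j} f => by
      let τ : (evaluation J C).obj i ⟶ (evaluation J C).obj j :=
        { app := fun F => F.map f
          naturality := fun F F' g => (g.naturality f).symm }
      show ShortComplex.homologyMap ((HomologicalComplex.shortComplexFunctor C c n).map (K.map f)) ≫
        (ψ j).hom = (ψ i).hom ≫ τ.app S.homology
      rw [show (HomologicalComplex.shortComplexFunctor C c n).map (K.map f) = S.mapNatTrans τ from
        ShortComplex.hom_ext _ _ rfl rfl rfl, ShortComplex.homologyMap_mapNatTrans]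
      simp [ψ])
  refine ⟨(IsColimit.ofIsoColimit
    ((IsColimit.precomposeHomEquiv ν (colimit.cocone S.homology)).symm
      (colimit.isColimit S.homology))
    (Cocone.ext θ fun j => ?_))⟩
  let τ : (evaluation J C).obj j ⟶ (colim : (J ⥤ C) ⥤ C) :=
    { app := fun F => colimit.ι F j
      naturality := fun F F' g => (ι_colimMap g _).symm }
  have hfac : (HomologicalComplex.shortComplexFunctor C c n).map (s.ι.app j) =
      S.mapNatTrans τ ≫ iC.hom :=
    ShortComplex.hom_ext _ _ (he _ _).symm (he _ _).symm (he _ _).symm
  show ((ψ j).hom ≫ colimit.ι S.homology j) ≫ θ.hom = ShortComplex.homologyMap _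
  rw [hfac, ShortComplex.homologyMap_comp, ShortComplex.homologyMap_mapNatTrans]
  simp [θ, ψ, τ]

/-- A map out of a sequential colimit is mono once the kernels die along the system. -/
theorem mono_of_kernels_die {C : Type u} [Category.{v} C] [Abelian C]
    [HasColimitsOfShape ℕ C] [HasExactColimitsOfShape ℕ C] {H : ℕ ⥤ C} {s : Cocone H}
    (hs : IsColimit s) {Y : C} (g : s.pt ⟶ Y) (N : ℕ)
    (h : ∀ n, N ≤ n → kernel.ι (s.ι.app n ≫ g) ≫ H.map (homOfLE (Nat.le_succ n)) = 0) : Mono g := by
  let β : H ⟶ (Functor.const ℕ).obj Y :=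
    { app := fun n => s.ι.app n ≫ g
      naturality := fun n m f => by simp }
  let S : ShortComplex (ℕ ⥤ C) := ShortComplex.mk (kernel.ι β) β (kernel.condition β)
  have hS : S.Exact := ShortComplex.exact_of_f_is_kernel S (kernelIsKernel β)
  have hS' := hS.map (colim : (ℕ ⥤ C) ⥤ C)
  have hK : IsZero (colimit (kernel β)) := by
    refine (IsZero.iff_id_eq_zero _).2 (colimit.hom_ext fun n => ?_)
    rw [comp_zero, Category.comp_id]
    let m := max n N
    rw [← colimit.w _ (homOfLE (le_max_left n N)),
      ← colimit.w (kernel β) (homOfLE (Nat.le_succ m))]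
    suffices h0 : (kernel β).map (homOfLE (Nat.le_succ m)) = 0 by
      rw [show (kernel β).map (homOfLE (Nat.le_succ m)) = 0 from h0, zero_comp, comp_zero]
    haveI : Mono ((kernel.ι β).app (m + 1)) := inferInstance
    rw [← cancel_mono ((kernel.ι β).app (m + 1)), zero_comp, (kernel.ι β).naturality]
    have hk : (kernel.ι β).app m ≫ (s.ι.app m ≫ g) = 0 :=
      NatTrans.congr_app (kernel.condition β) m
    rw [show (kernel.ι β).app m = kernel.lift _ _ hk ≫ kernel.ι _ from (kernel.lift_ι _ _ hk).symm,
      Category.assoc, h m (le_max_right n N), comp_zero]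
  haveI : Mono (colimMap β) := hS'.mono_g (hK.eq_of_src _ _)
  let c' := constCocone ℕ Y
  haveI : IsConnected ℕ := inferInstance
  let e₁ : s.pt ≅ colimit H := hs.coconePointUniqueUpToIso (colimit.isColimit H)
  let e₂ : colimit ((Functor.const ℕ).obj Y) ≅ Y :=
    (colimit.isColimit _).coconePointUniqueUpToIso (isColimitConstCocone ℕ Y)
  have : g = e₁.hom ≫ colimMap β ≫ e₂.hom := by
    refine hs.hom_ext fun n => ?_
    rw [← Category.assoc (s.ι.app n), IsColimit.comp_coconePointUniqueUpToIso_hom]
    show _ = colimit.ι H n ≫ colimMap β ≫ e₂.hom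
    rw [ι_colimMap_assoc]
    show s.ι.app n ≫ g = (s.ι.app n ≫ g) ≫ _
    rw [show colimit.ι ((Functor.const ℕ).obj Y) n ≫ e₂.hom = (constCocone ℕ Y).ι.app n from
      IsColimit.comp_coconePointUniqueUpToIso_hom _ _ n]
    exact (Category.comp_id _).symm
  rw [this]
  infer_instance

variable {A : Type u} [Category.{v} A] [Abelian A] [IsGrothendieckAbelian.{v} A] (S : Set A)

/-- Every complex is a colimit of bounded complexes of sums up to quasi-isomorphism. -/
theorem exists_tower [HasColimitsOfShape ℕ A] [HasExactColimitsOfShape ℕ A]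
    (hgen : ∀ X : A, ∃ (Y : A) (π : Y ⟶ X), IsSum S Y ∧ Epi π) (M : CochainComplex A ℤ) :
    ∃ (st : ℕ → Stage S M) (L : ℕ ⥤ CochainComplex A ℤ) (_ : ∀ n, L.obj n = (st n).P)
      (ψ : colimit L ⟶ M), QuasiIso ψ := by
  classical
  choose nx f hf hepi hker using fun (s : Stage S M) n => exists_next S hgen s n
  let s₀ : Stage S M :=
    { P := 0
      φ := 0
      bound := 0
      isSum := fun j => isSum_of_isZero S
        ((HomologicalComplex.eval A _ j).map_isZero (isZero_zero _))
      isZero := fun j _ => (HomologicalComplex.eval A _ j).map_isZero (isZero_zero _) }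
  let st : ℕ → Stage S M := fun n => Nat.rec s₀ (fun k s => nx s k) n
  let t : ∀ n, (st n).P ⟶ (st (n + 1)).P := fun n => f (st n) n
  let L : ℕ ⥤ CochainComplex A ℤ := Functor.ofSequence t
  have ht : ∀ n, L.map (homOfLE (Nat.le_succ n)) = t n := fun n => by
    exact Functor.ofSequence_map_homOfLE_succ t n
  let c : Cocone L :=
    { pt := M
      ι := NatTrans.ofSequence (fun n => (st n).φ) (fun n => by
        rw [show L.map (homOfLE (n.le_add_right 1)) = t n from ht n]
        exact (hf (st n) n).trans (Category.comp_id _).symm) }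
  refine ⟨st, L, fun n => rfl, colimit.desc L c, ⟨fun j => ?_⟩⟩
  rw [quasiIsoAt_iff_isIso_homologyMap]
  let H := HomologicalComplex.homologyFunctor A (ComplexShape.up ℤ) j
  obtain ⟨hH⟩ := nonempty_isColimit_homology' (colimit.isColimit L) j
  have hι : ∀ n, H.map (colimit.ι L n) ≫ HomologicalComplex.homologyMap (colimit.desc L c) j =
      HomologicalComplex.homologyMap (st n).φ j := fun n => by
    show H.map (colimit.ι L n) ≫ H.map (colimit.desc L c) = _
    rw [← H.map_comp, colimit.ι_desc]
    rfl
  haveI : Epi (HomologicalComplex.homologyMap (colimit.desc L c) j) := by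
    have h := hepi (st j.natAbs.succ) j.natAbs.succ (j + 1) (by omega) (by omega)
    rw [add_sub_cancel_right] at h
    haveI : Epi (H.map (colimit.ι L (j.natAbs.succ + 1)) ≫
        HomologicalComplex.homologyMap (colimit.desc L c) j) := by
      rw [hι]
      exact h
    exact epi_of_epi (H.map (colimit.ι L (j.natAbs.succ + 1))) _
  haveI : Mono (HomologicalComplex.homologyMap (colimit.desc L c) j) :=
    mono_of_kernels_die hH _ j.natAbs fun n hn => by
      show kernel.ι (H.map (colimit.ι L n) ≫ _) ≫ H.map (L.map (homOfLE (Nat.le_succ n))) = 0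
      rw [ht n]
      have e := hker (st n) n j (by omega) (by omega)
      have hz : kernel.ι (H.map (colimit.ι L n) ≫ HomologicalComplex.homologyMap (colimit.desc L c) j) ≫
          HomologicalComplex.homologyMap (st n).φ j = 0 := by
        rw [← hι, kernel.condition]
      rw [← kernel.lift_ι _ _ hz, Category.assoc]
      exact (congrArg (_ ≫ ·) e).trans comp_zero
  exact isIso_of_mono_of_epi _

end

end Groth.Agent.PCompactLib
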