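import Groth.Agent.PCompactLib.Core
import Mathlib.Algebra.Homology.HomologicalComplexLimits
import Mathlib.Algebra.Homology.HomotopyCategory.KProjective

/-!
# Compactness in the derived category
-/

set_option autoImplicit false
set_option linter.style.haveILetI false
set_option linter.unusedSectionVars false
universe w v u

open CategoryTheory Limits Abelian

namespace Groth.Agent.PCompactLib

noncomputable section

variable {A : Type u} [Category.{v} A] [Abelian A] [IsGrothendieckAbelian.{v} A] (P : A)

/-- Maps into sums factor through finite subsums. -/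
def SumFin : Prop :=
  ∀ (ι : Type v) (X : ι → A) (x : P ⟶ ∐ X),
    ∃ (s : Finset ι) (g : ∀ i, P ⟶ X i), x = ∑ i ∈ s, g i ≫ Sigma.ι X i

/-- Sums of acyclic objects are acyclic. -/
def SumAcy [HasExt.{v} A] : Prop :=
  ∀ (ι : Type v) (X : ι → A), (∀ i, IsAcy P (X i)) → IsAcy P (∐ X)

/-- The projection of a sum to a member. -/
def proj {D : Type*} [Category D] [HasZeroMorphisms D] {ι : Type*} (M : ι → D) [HasCoproduct M]
    (i : ι) : ∐ M ⟶ M i := by
  classical
  exact Sigma.desc fun j => if h : j = i then eqToHom (congrArg M h) else 0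

theorem ι_proj_self {D : Type*} [Category D] [HasZeroMorphisms D] {ι : Type*} (M : ι → D)
    [HasCoproduct M] (i : ι) : Sigma.ι M i ≫ proj M i = 𝟙 _ := by
  simp [proj]

theorem ι_proj_ne {D : Type*} [Category D] [HasZeroMorphisms D] {ι : Type*} (M : ι → D)
    [HasCoproduct M] {i j : ι} (h : j ≠ i) : Sigma.ι M j ≫ proj M i = 0 := by
  simp [proj, h]

theorem injective_homSum {D : Type*} [Category.{v} D] [Preadditive D] (K : D) {ι : Type v}
    (X : ι → D) [HasCoproduct X] : Function.Injective (CohDer.homSumToHomCoprod K X) := by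
  classical
  have key : ∀ (x : DirectSum ι fun i => K ⟶ X i) (i : ι),
      CohDer.homSumToHomCoprod K X x ≫ proj X i = x i := fun x i => by
    induction x using DirectSum.induction_on with
    | zero => simp
    | of j g =>
      rw [CohDer.homSumToHomCoprod, DirectSum.toAddMonoid_of]
      show (g ≫ Sigma.ι X j) ≫ proj X i = _
      by_cases h : j = i
      · subst h
        rw [Category.assoc, ι_proj_self, Category.comp_id, DirectSum.of_eq_same]
      · rw [Category.assoc, ι_proj_ne X h, comp_zero, DirectSum.of_eq_of_ne _ _ _ (Ne.symm h)]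
    | add x y hx hy => rw [map_add, Preadditive.add_comp, hx, hy, DirectSum.add_apply]
  intro x y h
  ext i
  rw [← key x i, ← key y i, h]

theorem sum_f' {ι : Type*} {K L : CochainComplex A ℤ} (s : Finset ι) (f : ι → (K ⟶ L)) (n : ℤ) :
    (∑ i ∈ s, f i).f n = ∑ i ∈ s, (f i).f n :=
  (HomologicalComplex.eval A (ComplexShape.up ℤ) n).map_sum f s

variable [HasDerivedCategory.{w} A]

theorem surjective_homSum {ι : Type v} (M : ι → DerivedCategory A) [HasCoproduct M]
    (hP : SumFin P) {F : ι → CochainComplex A ℤ} {c₀ : Cofan F} (hc₀ : IsColimit c₀)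
    (eM : ∀ i, M i ≅ DerivedCategory.Q.obj (F i)) (hR : Receives P c₀.pt)
    (γ : (DerivedCategory.singleFunctor A 0).obj P ⟶ ∐ M) :
    ∃ (s : Finset ι) (g : ∀ i, (DerivedCategory.singleFunctor A 0).obj P ⟶ M i),
      γ = ∑ i ∈ s, g i ≫ Sigma.ι M i := by
  classical
  obtain ⟨hQ⟩ := DCohMore.nonempty_isColimit_Q_gen M hc₀ eM
  let e : ∐ M ≅ DerivedCategory.Q.obj c₀.pt :=
    (colimit.isColimit (Discrete.functor M)).coconePointUniqueUpToIso hQ
  have he : ∀ i, Sigma.ι M i ≫ e.hom = (eM i).hom ≫ DerivedCategory.Q.map (c₀.inj i) :=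
    fun i => IsColimit.comp_coconePointUniqueUpToIso_hom (colimit.isColimit (Discrete.functor M)) hQ ⟨i⟩
  obtain ⟨f, hf⟩ := hR (γ ≫ e.hom)
  have hX : IsColimit (Cofan.mk (f := fun i => (F i).X 0) (c₀.pt.X 0) fun i => (c₀.inj i).f 0) :=
    isColimitCofanMkObjOfIsColimit (HomologicalComplex.eval A (ComplexShape.up ℤ) 0) _ _
      (hc₀.ofIsoColimit (Cofan.ext (Iso.refl _) (by simp)))
  let e₀ := (colimit.isColimit (Discrete.functor fun i => (F i).X 0)).coconePointUniqueUpToIso hX
  have he₀ : ∀ i, Sigma.ι (fun i => (F i).X 0) i ≫ e₀.hom = (c₀.inj i).f 0 :=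
    fun i => IsColimit.comp_coconePointUniqueUpToIso_hom
      (colimit.isColimit (Discrete.functor fun i => (F i).X 0)) hX ⟨i⟩
  obtain ⟨s, g, hg⟩ := hP ι (fun i => (F i).X 0) (deg0 P f ≫ e₀.inv)
  have hg' : deg0 P f = ∑ i ∈ s, g i ≫ (c₀.inj i).f 0 := by
    rw [← cancel_mono e₀.inv, hg, Preadditive.sum_comp]
    refine Finset.sum_congr rfl fun i _ => ?_
    rw [← he₀ i, Category.assoc, Category.assoc, Iso.hom_inv_id, Category.comp_id]
  let π : ∀ i, c₀.pt ⟶ F i := fun i =>
    Cofan.IsColimit.desc hc₀ fun j => if h : j = i then eqToHom (congrArg F h) else 0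
  have hπ : ∀ i j, c₀.inj j ≫ π i = if h : j = i then eqToHom (congrArg F h) else 0 :=
    fun i j => Cofan.IsColimit.fac hc₀ _ j
  have hcomp : ∀ i ∈ s, g i = deg0 P (f ≫ π i) := fun i hi => by
    rw [deg0_comp, hg', Preadditive.sum_comp, Finset.sum_eq_single_of_mem i hi]
    · rw [Category.assoc, ← HomologicalComplex.comp_f, hπ, dif_pos rfl]
      simp
    · intro j _ hj
      rw [Category.assoc, ← HomologicalComplex.comp_f, hπ, dif_neg hj]
      simp
  have hf' : f = ∑ i ∈ s, (f ≫ π i) ≫ c₀.inj i := by
    refine deg0_injective P ?_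
    rw [hg', deg0, sum_f', Preadditive.comp_sum]
    exact Finset.sum_congr rfl fun i hi => by rw [hcomp i hi]; exact (deg0_comp P _ _).symm
  refine ⟨s, fun i => ((DerivedCategory.singleFunctorIsoCompQ A 0).app P).hom ≫
    DerivedCategory.Q.map (f ≫ π i) ≫ (eM i).inv, ?_⟩
  rw [← cancel_mono e.hom, ← hf]
  conv_lhs => rw [hf', Functor.map_sum, Preadditive.comp_sum]
  rw [Preadditive.sum_comp]
  refine Finset.sum_congr rfl fun i _ => ?_
  simp only [Category.assoc, he, Iso.inv_hom_id_assoc, ← Functor.map_comp]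

theorem bijective_homSum [HasDerivedCategory.{v} A] {ι : Type v} (M : ι → DerivedCategory A)
    [HasCoproduct M] (hP : SumFin P) {F : ι → CochainComplex A ℤ} {c₀ : Cofan F}
    (hc₀ : IsColimit c₀) (eM : ∀ i, M i ≅ DerivedCategory.Q.obj (F i)) (hR : Receives P c₀.pt) :
    Function.Bijective
      (CohDer.homSumToHomCoprod ((DerivedCategory.singleFunctor A 0).obj P) M) := by
  classical
  refine ⟨injective_homSum _ M, fun γ => ?_⟩
  obtain ⟨s, g, rfl⟩ := surjective_homSum P M hP hc₀ eM hR γ
  refine ⟨∑ i ∈ s, DirectSum.of _ i (g i), ?_⟩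
  rw [map_sum]
  refine Finset.sum_congr rfl fun i _ => ?_
  rw [CohDer.homSumToHomCoprod, DirectSum.toAddMonoid_of]
  rfl

/-- A projective object receives maps from everything. -/
theorem receives_of_projective [Projective P] (L : CochainComplex A ℤ) : Receives P L := by
  intro γ
  haveI : ∀ n, Projective ((sgl P).X n) := fun n => by
    by_cases hn : n = 0
    · subst hn
      exact Projective.of_iso (sglX P).symm inferInstance
    · exact (isZero_sgl_X P hn).projective
  haveI : (sgl P).IsKProjective := CochainComplex.isKProjective_of_projective _ 0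
  let e := (DerivedCategory.singleFunctorIsoCompQ A 0).app P
  let qm := HomotopyCategory.quotient A (ComplexShape.up ℤ)
  let ε := DerivedCategory.quotientCompQhIso A
  obtain ⟨g', hg'⟩ := (CochainComplex.IsKProjective.Qh_map_bijective (sgl P)
    (qm.obj L)).surjective (ε.hom.app _ ≫ (e.inv ≫ γ) ≫ ε.inv.app L)
  obtain ⟨g, rfl⟩ := qm.map_surjective g'
  refine ⟨g, ?_⟩
  rw [← cancel_epi e.inv, Iso.inv_hom_id_assoc, ← cancel_epi (ε.hom.app _), ← ε.hom.naturality g]
  dsimp only [Functor.comp_map]
  rw [hg']
  simp only [Category.assoc]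
  erw [Iso.inv_hom_id_app]
  simp

variable [HasExt.{v} A]

theorem isAcy_cokernel_X {L J : CochainComplex A ℤ} (i : L ⟶ J) [Mono i] (n : ℤ)
    (hL : IsAcy P (L.X n)) (hJ : IsAcy P (J.X n)) : IsAcy P ((cokernel i).X n) := by
  have hS : (ShortComplex.mk i (cokernel.π i) (cokernel.condition i)).ShortExact :=
    { exact := ShortComplex.exact_of_g_is_cokernel _ (cokernelIsCokernel i) }
  exact isAcy_X₃ P (hS.map_of_exact (HomologicalComplex.eval A (ComplexShape.up ℤ) n)) hL hJ

theorem receives_of_bounded (L : CochainComplex A ℤ) (a : ℤ) [L.IsStrictlyGE a]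
    (hL : ∀ n, IsAcy P (L.X n)) : Receives P L := by
  obtain ⟨J, i, hi, hqi, hinj, hge⟩ :=
    CochainComplex.Plus.modelCategoryQuillen.exists_mono_quasiIso_injective L (a - 1) a (by omega)
  haveI := hinj
  haveI := hge
  haveI := hi
  haveI := hqi
  haveI := CochainComplex.isKInjective_of_injective J (a - 1)
  refine receives_of_acyclic P i (hL _) (isAcy_cycles_of_bounded P
    ((KInj.quasiIso_iff_acyclic_cokernel i).1 inferInstance)
    (fun n => isAcy_cokernel_X P i n (hL n) (isAcy_of_injective P _)) (a - 1) fun n hn => ?_)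
  exact IsZero.of_epi ((cokernel.π i).f n) (CochainComplex.isZero_of_isStrictlyGE J (a - 1) n hn)

theorem receives_of_dim (L : CochainComplex A ℤ) (d : ℕ)
    (hd : ∀ (X : A) (q : ℕ), d < q → Subsingleton (Ext P X q))
    (hL : ∀ n, IsAcy P (L.X n)) : Receives P L := by
  obtain ⟨J, i, hJ, hqi, hmono, hinj⟩ := KInj.exists_isKInjective_resolution L
  haveI := hinj
  haveI := hJ
  haveI := hqi
  haveI := hmono
  haveI : Mono i := HomologicalComplex.mono_of_mono_f i hmono
  exact receives_of_acyclic P i (hL _) (isAcy_cycles_of_dim P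
    ((KInj.quasiIso_iff_acyclic_cokernel i).1 inferInstance)
    (fun n => isAcy_cokernel_X P i n (hL n) (isAcy_of_injective P _)) d hd)

theorem isAcy_coproduct {ι : Type v} {F : ι → CochainComplex A ℤ} {c₀ : Cofan F}
    (hc₀ : IsColimit c₀) (hs : SumAcy P) (hF : ∀ i n, IsAcy P ((F i).X n)) (n : ℤ) :
    IsAcy P (c₀.pt.X n) := by
  have hX : IsColimit (Cofan.mk (f := fun i => (F i).X n) (c₀.pt.X n) fun i => (c₀.inj i).f n) :=
    isColimitCofanMkObjOfIsColimit (HomologicalComplex.eval A (ComplexShape.up ℤ) n) _ _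
      (hc₀.ofIsoColimit (Cofan.ext (Iso.refl _) (by simp)))
  exact isAcy_of_iso P
    ((colimit.isColimit (Discrete.functor fun i => (F i).X n)).coconePointUniqueUpToIso hX)
    (hs ι _ fun i => hF i n)

end

section Main

noncomputable section

variable {A : Type u} [Category.{v} A] [Abelian A] [IsGrothendieckAbelian.{v} A] (P : A)
variable [HasDerivedCategory.{v} A]

/-- Injective models in the derived category. -/
theorem exists_injective_model (X : DerivedCategory A) :
    ∃ F : CochainComplex A ℤ, (∀ n, Injective (F.X n)) ∧ Nonempty (X ≅ DerivedCategory.Q.obj F) := by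
  haveI : (DerivedCategory.Q (C := A)).EssSurj :=
    Localization.essSurj _ (HomologicalComplex.quasiIso A (ComplexShape.up ℤ))
  obtain ⟨J, i, -, hqi, -, hinj⟩ :=
    KInj.exists_isKInjective_resolution ((DerivedCategory.Q (C := A)).objPreimage X)
  haveI := hqi
  exact ⟨J, hinj, ⟨(DerivedCategory.Q.objObjPreimageIso X).symm ≪≫ asIso (DerivedCategory.Q.map i)⟩⟩

/-- Bounded below injective models in the derived category. -/
theorem exists_injective_model_GE (X : DerivedCategory A) (a : ℤ) [X.IsGE a] :
    ∃ F : CochainComplex A ℤ, (∀ n, Injective (F.X n)) ∧ F.IsStrictlyGE a ∧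
      Nonempty (X ≅ DerivedCategory.Q.obj F) := by
  obtain ⟨K, hK, ⟨e⟩⟩ := DerivedCategory.exists_iso_Q_obj_of_isGE X a
  haveI := hK
  obtain ⟨J, i, hqi, hinj, hge⟩ :=
    CochainComplex.Plus.modelCategoryQuillen.exists_quasiIso_injective K a
  haveI := hqi
  exact ⟨J, hinj, hge, ⟨e ≪≫ asIso (DerivedCategory.Q.map i)⟩⟩

/-- Projective objects which see sums finitely are compact. -/
theorem isCompactObject_of_projective [Projective P] [HasCoproducts.{v} (DerivedCategory A)]
    (hP : SumFin P) : CohDer.IsCompactObject ((DerivedCategory.singleFunctor A 0).obj P) := by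
  intro ι M
  choose F _ eM using fun i => exists_injective_model (M i)
  exact bijective_homSum P M hP (colimit.isColimit (Discrete.functor F)) (fun i => (eM i).some)
    (receives_of_projective P _)

variable [HasExt.{v} A]

/-- Compactness on uniformly bounded below families. -/
theorem bijective_homSum_of_isGE {ι : Type v} (M : ι → DerivedCategory A) [HasCoproduct M] (a : ℤ)
    (hM : ∀ i, (M i).IsGE a) (hP : SumFin P) (hs : SumAcy P) :
    Function.Bijective
      (CohDer.homSumToHomCoprod ((DerivedCategory.singleFunctor A 0).obj P) M) := by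
  choose F hinj hge eM using fun i => haveI := hM i; exists_injective_model_GE (M i) a
  have hacy : ∀ n, IsAcy P ((∐ F).X n) := fun n =>
    isAcy_coproduct P (colimit.isColimit (Discrete.functor F)) hs
      (fun i n => haveI := hinj i n; isAcy_of_injective P _) n
  haveI : (∐ F : CochainComplex A ℤ).IsStrictlyGE a := by
    rw [CochainComplex.isStrictlyGE_iff]
    intro n hn
    have hX := isColimitCofanMkObjOfIsColimit (HomologicalComplex.eval A (ComplexShape.up ℤ) n) _ _
      (coproductIsCoproduct F)
    refine (IsZero.iff_id_eq_zero _).2 (Cofan.IsColimit.hom_ext hX _ _ fun i => ?_)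
    haveI := hge i
    exact (CochainComplex.isZero_of_isStrictlyGE (F i) a n hn).eq_of_src _ _
  exact bijective_homSum P M hP (colimit.isColimit (Discrete.functor F)) (fun i => (eM i).some)
    (receives_of_bounded P (∐ F) a hacy)

/-- Objects of finite cohomological dimension whose cohomology sees sums are compact. -/
theorem isCompactObject_of_dim [HasCoproducts.{v} (DerivedCategory A)] (d : ℕ)
    (hd : ∀ (X : A) (q : ℕ), d < q → Subsingleton (Ext P X q)) (hP : SumFin P) (hs : SumAcy P) :
    CohDer.IsCompactObject ((DerivedCategory.singleFunctor A 0).obj P) := by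
  intro ι M
  choose F hinj eM using fun i => exists_injective_model (M i)
  exact bijective_homSum P M hP (colimit.isColimit (Discrete.functor F)) (fun i => (eM i).some)
    (receives_of_dim P _ d hd fun n =>
      isAcy_coproduct P (colimit.isColimit (Discrete.functor F)) hs
        (fun i n => haveI := hinj i n; isAcy_of_injective P _) n)

end

end Main

end Groth.Agent.PCompactLib
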