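import Groth.Agent.PCompactLib.ResolColim
import Groth.Agent.PCompactLib.Sum
import Groth.Agent.BrownRep.Compact
import Groth.Agent.DCohMore.ExTri
import Groth.Agent.S0985
import Groth.Prelude.Def_CohDer

/-!
# Compact objects are retracts of bounded complexes of finite sums of generators
-/

set_option autoImplicit false
set_option linter.style.haveILetI false
set_option linter.unusedSectionVars false
set_option backward.isDefEq.respectTransparency false
set_option backward.isDefEq.respectTransparency.types false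
universe v u

open CategoryTheory Limits

namespace Groth.Agent.PCompactLib

noncomputable section

variable {A : Type u} [Category.{v} A] [Abelian A] [IsGrothendieckAbelian.{v} A] (S : Set A)

/-- Finite sums of members of `S`. -/
def IsFinSum (X : A) : Prop :=
  ∃ (ι : Type v) (_ : Finite ι) (E : ι → A), (∀ i, E i ∈ S) ∧ Nonempty (X ≅ ∐ E)

theorem IsFinSum.isSum {X : A} (h : IsFinSum S X) : IsSum S X := by
  obtain ⟨ι, hι, E, hE, he⟩ := h
  exact ⟨ι, E, hE, he⟩

theorem isFinSum_of_iso {X Y : A} (e : X ≅ Y) (h : IsFinSum S X) : IsFinSum S Y := by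
  obtain ⟨ι, hι, E, hE, ⟨e'⟩⟩ := h
  exact ⟨ι, hι, E, hE, ⟨e.symm ≪≫ e'⟩⟩

theorem isFinSum_of_isZero {X : A} (h : IsZero X) : IsFinSum S X := by
  refine ⟨PEmpty.{v + 1}, inferInstance, fun i => i.elim, fun i => i.elim, ⟨h.iso ?_⟩⟩
  exact (IsZero.iff_id_eq_zero _).2 (Sigma.hom_ext _ _ fun i => i.elim)

theorem isFinSum_biproduct {X : A} (h : IsFinSum S X) [HasFiniteBiproducts A] :
    ∃ (n : ℕ) (E : Fin n → A), (∀ j, E j ∈ S) ∧ Nonempty (X ≅ ⨁ E) := by
  obtain ⟨ι, hι, E, hE, ⟨e⟩⟩ := h
  haveI := Fintype.ofFinite ι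
  let q := Fintype.equivFin ι
  exact ⟨_, fun j => E (q.symm j), fun j => hE _,
    ⟨e ≪≫ (Sigma.reindex q.symm E).symm ≪≫ (biproduct.isoCoproduct _).symm⟩⟩

section Split

variable {ι : Type v} (E : ι → A) (F : Finset ι)

/-- The projection to a finite subsum. -/
def toFin : ∐ E ⟶ ∐ fun i : F => E i := by
  classical
  exact Sigma.desc fun i => if h : i ∈ F then Sigma.ι (fun i : F => E i) ⟨i, h⟩ else 0

/-- The inclusion of a finite subsum. -/
def ofFin : (∐ fun i : F => E i) ⟶ ∐ E := Sigma.desc fun i => Sigma.ι E i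

/-- The projection to the other summands. -/
def toRest : ∐ E ⟶ ∐ fun i : {i // i ∉ F} => E i := by
  classical
  exact Sigma.desc fun i => if h : i ∈ F then 0 else Sigma.ι (fun i : {i // i ∉ F} => E i) ⟨i, h⟩

/-- The inclusion of the other summands. -/
def ofRest : (∐ fun i : {i // i ∉ F} => E i) ⟶ ∐ E := Sigma.desc fun i => Sigma.ι E i

theorem ι_toRest_of_mem {i : ι} (h : i ∈ F) : Sigma.ι E i ≫ toRest E F = 0 := by
  simp [toRest, h]

theorem ofRest_toRest : ofRest E F ≫ toRest E F = 𝟙 _ :=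
  Sigma.hom_ext _ _ fun i => by simp [ofRest, toRest, i.2]

theorem ofFin_toRest : ofFin E F ≫ toRest E F = 0 :=
  Sigma.hom_ext _ _ fun i => by simp [ofFin, toRest, i.2]

theorem ofFin_toFin : ofFin E F ≫ toFin E F = 𝟙 _ :=
  Sigma.hom_ext _ _ fun i => by simp [ofFin, toFin, i.2]

theorem split_eq : toFin E F ≫ ofFin E F + toRest E F ≫ ofRest E F = 𝟙 _ := by
  refine Sigma.hom_ext _ _ fun i => ?_
  by_cases h : i ∈ F <;> simp [toFin, ofFin, toRest, ofRest, h]

/-- The finite subsum is the kernel of the projection to the rest. -/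
def kernelToRest : kernel (toRest E F) ≅ ∐ fun i : F => E i where
  hom := kernel.ι _ ≫ toFin E F
  inv := kernel.lift _ (ofFin E F) (ofFin_toRest E F)
  hom_inv_id := by
    rw [← cancel_mono (kernel.ι _), Category.assoc, Category.assoc, kernel.lift_ι, Category.id_comp]
    have h := kernel.ι (toRest E F) ≫= split_eq E F
    rw [Preadditive.comp_add, kernel.condition_assoc, zero_comp, add_zero, Category.comp_id] at h
    exact h
  inv_hom_id := by rw [kernel.lift_ι_assoc, ofFin_toFin]

theorem sum_toRest_eq_zero (X : A) (s : Finset ι) (g : ∀ i, X ⟶ E i) (h : s ⊆ F) :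
    (∑ i ∈ s, g i ≫ Sigma.ι E i) ≫ toRest E F = 0 := by
  rw [Preadditive.sum_comp]
  exact Finset.sum_eq_zero fun i hi => by rw [Category.assoc, ι_toRest_of_mem E F (h hi), comp_zero]

end Split

variable [HasDerivedCategory.{v} A] [HasCoproducts.{v} (DerivedCategory A)]

/-- Maps from a compact object to a sum concentrated in one degree are finite sums. -/
theorem exists_finsum_single {K : DerivedCategory A} (hK : CohDer.IsCompactObject K) (n : ℤ)
    {ι : Type v} (E : ι → A)
    (γ : K ⟶ DerivedCategory.Q.obj ((HomologicalComplex.single A (ComplexShape.up ℤ) n).obj (∐ E))) :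
    ∃ (s : Finset ι)
      (g : ∀ i, K ⟶ DerivedCategory.Q.obj ((HomologicalComplex.single A (ComplexShape.up ℤ) n).obj (E i))),
      γ = ∑ i ∈ s, g i ≫ DerivedCategory.Q.map
        ((HomologicalComplex.single A (ComplexShape.up ℤ) n).map (Sigma.ι E i)) := by
  classical
  let sn := HomologicalComplex.single A (ComplexShape.up ℤ) n
  let M : ι → DerivedCategory A := fun i => DerivedCategory.Q.obj (sn.obj (E i))
  have hc₀ : IsColimit (Cofan.mk (f := fun i => sn.obj (E i)) (sn.obj (∐ E))
      fun i => sn.map (Sigma.ι E i)) :=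
    isColimitCofanMkObjOfIsColimit sn _ _ (coproductIsCoproduct E)
  obtain ⟨hQ⟩ := DCohMore.nonempty_isColimit_Q_gen M hc₀ fun i => Iso.refl _
  let e : ∐ M ≅ DerivedCategory.Q.obj (sn.obj (∐ E)) :=
    (colimit.isColimit (Discrete.functor M)).coconePointUniqueUpToIso hQ
  have he : ∀ i, Sigma.ι M i ≫ e.hom = DerivedCategory.Q.map (sn.map (Sigma.ι E i)) := fun i =>
    (IsColimit.comp_coconePointUniqueUpToIso_hom
      (colimit.isColimit (Discrete.functor M)) hQ ⟨i⟩).trans (Category.id_comp _)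
  obtain ⟨x, hx⟩ := (hK ι M).2 (γ ≫ e.inv)
  refine ⟨x.support, fun i => x i, ?_⟩
  rw [← cancel_mono e.inv, ← hx]
  conv_lhs => rw [← DirectSum.sum_support_of x]
  rw [map_sum, Preadditive.sum_comp]
  refine Finset.sum_congr rfl fun i _ => ?_
  rw [Category.assoc, ← he i, Category.assoc, Iso.hom_inv_id, Category.comp_id,
    CohDer.homSumToHomCoprod, DirectSum.toAddMonoid_of]
  rfl

variable (hfin : ∀ E ∈ S, SumFin E)

include hfin in
/-- One more degree of finite sums. -/
theorem exists_step {K : DerivedCategory A} (hK : CohDer.IsCompactObject K)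
    (L : CochainComplex A ℤ) (r : Retract K (DerivedCategory.Q.obj L)) (n : ℤ)
    (hs : ∀ j, IsSum S (L.X j)) (hn : ∀ j, j < n → IsFinSum S (L.X j)) :
    ∃ (L' : CochainComplex A ℤ) (_ : Retract K (DerivedCategory.Q.obj L')),
      (∀ j, IsSum S (L'.X j)) ∧ (∀ j, j < n + 1 → IsFinSum S (L'.X j)) ∧
      ∀ j, IsZero (L.X j) → IsZero (L'.X j) := by
  classical
  obtain ⟨ι, E, hE, ⟨e⟩⟩ := hs n
  obtain ⟨κ, hκ, E', hE', ⟨e'⟩⟩ := hn (n - 1) (by omega)
  haveI := Fintype.ofFinite κ
  choose s g hg using fun k => hfin (E' k) (hE' k) ι E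
    (Sigma.ι E' k ≫ e'.inv ≫ L.d (n - 1) n ≫ e.hom)
  let F₀ : Finset ι := Finset.univ.biUnion s
  have hd : L.d (n - 1) n ≫ e.hom ≫ toRest E F₀ = 0 := by
    rw [← cancel_epi e'.inv, comp_zero]
    refine Sigma.hom_ext _ _ fun k => ?_
    rw [comp_zero, reassoc_of% hg k]
    exact sum_toRest_eq_zero E F₀ _ _ _ (Finset.subset_biUnion_of_mem s (Finset.mem_univ k))
  let sn := HomologicalComplex.single A (ComplexShape.up ℤ) n
  let q₀ : L ⟶ sn.obj (∐ fun i : {i // i ∉ F₀} => E i) :=
    HomologicalComplex.mkHomToSingle (e.hom ≫ toRest E F₀) (fun i hi => by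
      obtain rfl : i = n - 1 := by simp at hi; omega
      exact hd)
  obtain ⟨s₁, g₁, hg₁⟩ := exists_finsum_single hK n (fun i : {i // i ∉ F₀} => E i)
    (r.i ≫ DerivedCategory.Q.map q₀)
  let F : Finset ι := F₀ ∪ s₁.image Subtype.val
  let p' : (∐ fun i : {i // i ∉ F₀} => E i) ⟶ ∐ fun i : {i // i ∉ F} => E i :=
    ofRest E F₀ ≫ toRest E F
  have hp : toRest E F₀ ≫ p' = toRest E F := by
    have h := congrArg (· ≫ toRest E F) (split_eq E F₀)
    simp only [Preadditive.add_comp, Category.assoc, Category.id_comp] at h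
    rw [show ofFin E F₀ ≫ toRest E F = 0 from Sigma.hom_ext _ _ fun i => by
      simp [ofFin, ι_toRest_of_mem E F (Finset.mem_union_left _ i.2)], comp_zero, zero_add] at h
    exact h
  let q : L ⟶ sn.obj (∐ fun i : {i // i ∉ F} => E i) := q₀ ≫ sn.map p'
  have hq : r.i ≫ DerivedCategory.Q.map q = 0 := by
    rw [Functor.map_comp, reassoc_of% hg₁, Preadditive.sum_comp]
    refine Finset.sum_eq_zero fun i hi => ?_
    rw [Category.assoc, ← Functor.map_comp, ← Functor.map_comp]
    have : Sigma.ι (fun i : {i // i ∉ F₀} => E i) i ≫ p' = 0 := by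
      simp [p', ofRest, ι_toRest_of_mem E F (Finset.mem_union_right F₀ (Finset.mem_image_of_mem _ hi))]
    rw [this, Functor.map_zero, Functor.map_zero, comp_zero]
  have hqn : q.f n = e.hom ≫ toRest E F ≫
      (HomologicalComplex.singleObjXSelf (ComplexShape.up ℤ) n _).inv := by
    simp [q, q₀, sn, HomologicalComplex.single_map_f_self, reassoc_of% hp]
  haveI : ∀ j, Epi (q.f j) := fun j => by
    by_cases hj : j = n
    · subst hj
      rw [hqn]
      haveI : Epi (toRest E F) := epi_of_epi_fac (ofRest_toRest E F)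
      infer_instance
    · exact ⟨fun a b _ => (HomologicalComplex.isZero_single_obj_X _ _ _ _ hj).eq_of_src a b⟩
  haveI : Epi q := HomologicalComplex.epi_of_epi_f q inferInstance
  have hS : (ShortComplex.mk (kernel.ι q) q (kernel.condition q)).ShortExact :=
    { exact := ShortComplex.exact_of_f_is_kernel _ (kernelIsKernel q) }
  obtain ⟨l, hl⟩ := Pretriangulated.Triangle.coyoneda_exact₂ _
    (DerivedCategory.triangleOfSES_distinguished hS) r.i hq
  let kx : ∀ j, (kernel q).X j ≅ kernel (q.f j) := fun j =>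
    PreservesKernel.iso (HomologicalComplex.eval A (ComplexShape.up ℤ) j) q
  have hfinn : IsFinSum S ((kernel q).X n) := by
    refine ⟨{i // i ∈ F}, inferInstance, fun i => E i, fun i => hE _, ⟨kx n ≪≫ kernelIsoOfEq hqn ≪≫
      kernelIsIsoComp e.hom _ ≪≫ kernelCompMono (toRest E F) _ ≪≫ kernelToRest E F⟩⟩
  have hne : ∀ j, j ≠ n → Nonempty ((kernel q).X j ≅ L.X j) := fun j hj =>
    ⟨kx j ≪≫ kernelIsoOfEq ((HomologicalComplex.isZero_single_obj_X _ _ _ _ hj).eq_of_tgt (q.f j) 0) ≪≫
      kernelZeroIsoSource⟩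
  refine ⟨kernel q, ⟨l, DerivedCategory.Q.map (kernel.ι q) ≫ r.r, ?_⟩, fun j => ?_, fun j hj => ?_,
    fun j hj => ?_⟩
  · rw [← Category.assoc]
    exact (congrArg (· ≫ r.r) hl.symm).trans r.retract
  · by_cases hjn : j = n
    · subst hjn
      exact hfinn.isSum
    · obtain ⟨w⟩ := hne j hjn
      exact isSum_of_iso S w.symm (hs j)
  · by_cases hjn : j = n
    · subst hjn
      exact hfinn
    · obtain ⟨w⟩ := hne j hjn
      exact isFinSum_of_iso S w.symm (hn j (by omega))
  · exact IsZero.of_mono ((kernel.ι q).f j) hj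

variable (hgen : ∀ X : A, ∃ (Y : A) (π : Y ⟶ X), IsSum S Y ∧ Epi π)

include hfin hgen in
/-- Compact objects are retracts of bounded complexes of finite sums. -/
theorem exists_retract_finite {K : DerivedCategory A} (hK : CohDer.IsCompactObject K) :
    ∃ (L : CochainComplex A ℤ) (N : ℕ), (∀ j : ℤ, (N : ℤ) < j ∨ j < -(N : ℤ) → IsZero (L.X j)) ∧
      (∀ j, IsFinSum S (L.X j)) ∧ Nonempty (Retract K (DerivedCategory.Q.obj L)) := by
  haveI : HasColimitsOfShape ℕ A :=
    hasColimitsOfShape_of_equivalence (AsSmall.equiv.{0, 0, v} (C := ℕ)).symm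
  haveI : HasExactColimitsOfShape ℕ A :=
    HasExactColimitsOfShape.of_domain_equivalence A (AsSmall.equiv.{0, 0, v} (C := ℕ)).symm
  haveI : HasColimitsOfShape (Discrete ℕ) A :=
    hasColimitsOfShape_of_equivalence (Discrete.equivalence (Equiv.ulift.{v} (α := ℕ)))
  haveI : HasColimitsOfShape (Discrete ℕ) (DerivedCategory A) :=
    hasColimitsOfShape_of_equivalence (Discrete.equivalence (Equiv.ulift.{v} (α := ℕ)))
  haveI : (DerivedCategory.Q (C := A)).EssSurj :=
    Localization.essSurj _ (HomologicalComplex.quasiIso A (ComplexShape.up ℤ))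
  obtain ⟨st, T, hT, ψ, hψ⟩ := exists_tower S hgen ((DerivedCategory.Q (C := A)).objPreimage K)
  haveI : PreservesColimit (Discrete.functor T.obj) (DerivedCategory.Q (C := A)) := by
    obtain ⟨h⟩ := DCohMore.nonempty_isColimit_Q_gen (fun n => DerivedCategory.Q.obj (T.obj n))
      (coproductIsCoproduct T.obj) fun n => Iso.refl _
    refine preservesColimit_of_preserves_colimit_cocone (coproductIsCoproduct T.obj) ?_
    refine (isColimitMapCoconeCofanMkEquiv DerivedCategory.Q _ _).symm ?_
    exact h.ofIsoColimit (Cofan.ext (Iso.refl _) (by simp))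
  have hhc := S0985.result T
  let φ : K ⟶ DerivedCategory.Q.obj (colimit T) :=
    (DerivedCategory.Q.objObjPreimageIso K).inv ≫ inv (DerivedCategory.Q.map ψ)
  obtain ⟨n, χ, hχ⟩ := BrownRep.exists_factor_hocolim hhc hK φ
  have main : ∀ k : ℕ, ∃ (L : CochainComplex A ℤ) (_ : Retract K (DerivedCategory.Q.obj L)),
      (∀ j, IsSum S (L.X j)) ∧ (∀ j, j < -((st n).bound : ℤ) + k → IsFinSum S (L.X j)) ∧
      ∀ j : ℤ, ((st n).bound : ℤ) < j ∨ j < -((st n).bound : ℤ) → IsZero (L.X j) := by
    intro k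
    induction k with
    | zero =>
      refine ⟨T.obj n, ⟨χ, DerivedCategory.Q.map (colimit.ι T n) ≫ DerivedCategory.Q.map ψ ≫
        (DerivedCategory.Q.objObjPreimageIso K).hom, ?_⟩, fun j => ?_, fun j hj => ?_, fun j hj => ?_⟩
      · rw [← reassoc_of% hχ]
        simp [φ]
      · rw [hT n]; exact (st n).isSum j
      · rw [hT n]; exact isFinSum_of_isZero S ((st n).isZero j (Or.inr (by simpa using hj)))
      · rw [hT n]; exact (st n).isZero j hj
    | succ k ih =>
      obtain ⟨L, r, hs, hf, hz⟩ := ih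
      obtain ⟨L', r', hs', hf', hz'⟩ := exists_step S hfin hK L r _ hs hf
      exact ⟨L', r', hs', fun j hj => hf' j (by push_cast at hj; omega), fun j hj => hz' j (hz j hj)⟩
  obtain ⟨L, r, hs, hf, hz⟩ := main (2 * (st n).bound + 1)
  refine ⟨L, (st n).bound, hz, fun j => ?_, ⟨r⟩⟩
  by_cases hj : j ≤ ((st n).bound : ℤ)
  · exact hf j (by push_cast; omega)
  · exact isFinSum_of_isZero S (hz j (Or.inl (by omega)))

end

end Groth.Agent.PCompactLib
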